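import Cfsg.Agent.M22Trans.W.Stab
import Cfsg.Agent.TTLink.M22Classes

/-!
Products of members.
Adapted from `TTLink/M22Classes.lean`: the structure here asks for the weaker `M22Hyp` instead of `IsOfTypeM22`.
-/

set_option autoImplicit false
set_option linter.unusedSectionVars false

namespace Cfsg.Agent.M22Trans.W

open Cfsg.Agent.TTLink Cfsg.Agent.ThreeTransp45 Cfsg.Agent.SporB UnitarySix Cfsg.Agent.TTClass.UnitF4

variable {G : Type*} [Group G] [Finite G] {D : Set G}

namespace M22Prim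

variable (P : M22Prim D)
include P

theorem four_reduce : ∀ a b c e : G, Fac D [a, b, c, e] →
    ∃ m : List G, Fac D m ∧ m.length ≤ 3 ∧ m.prod = a * (b * (c * e)) := by
  obtain ⟨F, _, _, hF, hcov, -⟩ := P.covers
  exact P.hyp.four_three (fun {a b c} => hexad P.grp P.prim P.hyp) hcov

/-- Every involution is a product of at most three commuting transpositions. -/
theorem factor_three {x : G} (hx : x * x = 1) :
    ∃ m : List G, Fac D m ∧ m.length ≤ 3 ∧ m.prod = x := by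
  obtain ⟨F, _, _, hF, hcov, hperf⟩ := P.covers
  obtain ⟨a, ha, hxa⟩ := P.hyp.exists_fixed hx (hperf ▸ Subgroup.mem_top x)
  obtain ⟨cv⟩ := hcov a ha
  obtain ⟨l, h1, h2, h3⟩ := cv.factor ha hx hxa
  rw [← h3]
  exact reduce_three P.data P.four_reduce l.length l rfl h1 h2

theorem triples {a b c a' b' c' : G} (h : Fac D [a, b, c]) (h' : Fac D [a', b', c']) :
    ∃ g, cj g a = a' ∧ cj g b = b' ∧ cj g c = c' := by
  obtain ⟨hn, hm, hc⟩ := h
  obtain ⟨hn', hm', hc'⟩ := h'
  simp only [List.nodup_cons, List.mem_cons, List.not_mem_nil, or_false, not_or, not_false_eq_true,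
    List.nodup_nil, and_true] at hn hn'
  simp only [List.mem_cons, List.not_mem_nil, or_false, forall_eq_or_imp, forall_eq] at hm hm' hc hc'
  exact triples_conj P.hyp.sol P.hyp.cls (fun u hu => P.hyp.quot_noSolv hu) hm.1
    ⟨hm.2.1, Ne.symm hn.1.1, hc.1.2.1⟩ ⟨hm.2.2, Ne.symm hn.1.2, hc.1.2.2⟩ hn.2 hc.2.1.2.2
    hm'.1 ⟨hm'.2.1, Ne.symm hn'.1.1, hc'.1.2.1⟩ ⟨hm'.2.2, Ne.symm hn'.1.2, hc'.1.2.2⟩ hn'.2
    hc'.2.1.2.2

end M22Prim

end Cfsg.Agent.M22Trans.W
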