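import Cfsg.Agent.M22Trans.W.Classes
import Cfsg.Agent.TTLink.M22Count

/-!
Triples.
Adapted from `TTLink/M22Count.lean`: the structure here asks for the weaker `M22Hyp` instead of `IsOfTypeM22`.
-/

set_option autoImplicit false
set_option linter.unusedSectionVars false

namespace Cfsg.Agent.M22Trans.W

open Cfsg.Agent.TTLink Cfsg.Agent.ThreeTransp45 Cfsg.Agent.SporB UnitarySix Cfsg.Agent.TTClass.UnitF4

variable {G : Type*} [Group G] [Finite G] {D : Set G}

namespace M22Prim

variable (P : M22Prim D)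
include P

/-- The centraliser of a commuting triple has order `2^14·3^2`. -/
theorem triple_card {a b c : G} (h : Fac D [a, b, c]) :
    Nat.card ↥(Subgroup.centralizer ({a, b, c} : Set G)) = 147456 := by
  obtain ⟨F, _, _, hF, hcov, -⟩ := P.covers
  have ha : a ∈ D := h.mem a (by simp)
  obtain ⟨cv⟩ := hcov a ha
  have hD := P.data
  have hcard := card_triples (C := Subgroup.centralizer ({a} : Set G))
    {t : G × G × G | t.1 = a ∧ Fac D [t.1, t.2.1, t.2.2]} (fun g hg t ⟨e, ht⟩ => ⟨by
      show cj g t.1 = a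
      rw [e]; exact (cj_eq_self_iff g a).2 (Subgroup.mem_centralizer_singleton_iff.1 hg),
      ⟨by simpa using ht.nodup.map (cj_injective g),
       fun z hz => by
        obtain ⟨w, hw, rfl⟩ := List.mem_map.1 (show z ∈ [t.1, t.2.1, t.2.2].map (cj g) by simpa using hz)
        exact hD.inv' g w (ht.mem w hw),
       fun z hz z' hz' => by
        obtain ⟨w, hw, rfl⟩ := List.mem_map.1 (show z ∈ [t.1, t.2.1, t.2.2].map (cj g) by simpa using hz)
        obtain ⟨w', hw', rfl⟩ := List.mem_map.1 (show z' ∈ [t.1, t.2.1, t.2.2].map (cj g) by simpa using hz')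
        exact (cj_commute_iff g w w').2 (ht.comm w hw w' hw')⟩⟩)
    (a := a) (b := b) (c := c) ⟨rfl, h⟩ (fun t ⟨e, ht⟩ => by
      obtain ⟨g, e1, e2, e3⟩ := P.triples h ht
      rw [e] at e1
      exact ⟨g, Subgroup.mem_centralizer_singleton_iff.2 ((cj_eq_self_iff g a).1 e1).eq,
        Prod.ext (e1.trans e.symm) (Prod.ext e2 e3)⟩)
    (Subgroup.centralizer_le (by simp))
  rw [cv.card ha hD, cv.pairs ha] at hcard
  omega

end M22Prim

end Cfsg.Agent.M22Trans.W
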