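import Cfsg.Agent.TTLink.M22Kernel

/-!
Kernel of the action on a link.
Adapted from `TTLink/Hexad, TTLink/M22Kernel`: the structure here asks for the weaker `M22Hyp` instead of `IsOfTypeM22`.
-/

set_option autoImplicit false
set_option linter.unusedSectionVars false

namespace Cfsg.Agent.M22Trans.W

open Cfsg.Agent.TTLink Cfsg.Agent.ThreeTransp45 Cfsg.Agent.SporB UnitarySix

variable {G : Type*} [Group G] [Finite G] {D : Set G}

/-- A primitive group of type M(22), without the condition on common links. -/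
structure M22Prim (D : Set G) : Prop where
  grp : Cfsg.IsThreeTranspositionGroup D
  prim : Cfsg.IsPrimitiveUnderConj D
  hyp : M22Hyp D

/-- The six members of the hull of a commuting triple multiply to one. -/
theorem hexad [Finite G] (hD : Cfsg.IsThreeTranspositionGroup D)
    (hprim : Cfsg.IsPrimitiveUnderConj D) (h : M22Hyp D) {a b c : G} (ha : a ∈ D)
    (hb : b ∈ D) (hc : c ∈ D) (hab : a ≠ b) (hac : a ≠ c) (hbc : b ≠ c) (cab : Commute a b)
    (cac : Commute a c) (cbc : Commute b c) :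
    ∃ s : List G, s.Nodup ∧ s.length = 6 ∧ s.prod = 1 ∧ ∀ y, y ∈ s ↔ Hull D a b c y := by
  have hDd := data_of_group hD
  have hcl : ∀ a ∈ D, ∀ b ∈ D, ∃ g, cj g a = b := hprim.1
  have ht : TwinFree D := h.twinFree
  have hcen : Subgroup.center G = ⊥ := h.sol _ inferInstance
    (Group.isSolvable_of_comm fun x y => Subtype.ext (Subgroup.mem_center_iff.1 x.2 y).symm)
  have hq' := h.quot
  obtain ⟨la, hla, hlal, hala, hma, hca⟩ := hull_five hDd hcl ht ha (hq' a ha)
    ⟨hb, hab.symm, cab⟩ ⟨hc, hac.symm, cac⟩ hbc cbc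
  obtain ⟨lb, hlb, -, hblb, hmb, hcb⟩ := hull_five hDd hcl ht hb (hq' b hb)
    ⟨ha, hab, cab.symm⟩ ⟨hc, hbc.symm, cbc⟩ hac cac
  have hcomm : ∀ u ∈ a :: la, ∀ v ∈ a :: la, Commute u v := fun u hu v hv => by
    have h1 := (hma u).1 hu
    exact ((hma v).1 hv).2.2.2.2 u h1.1 h1.2.1 h1.2.2.1 h1.2.2.2.1
  have hperm : (a :: la).Perm (b :: lb) :=
    (List.perm_ext_iff_of_nodup (List.nodup_cons.2 ⟨hala, hla⟩) (List.nodup_cons.2 ⟨hblb, hlb⟩)).2
      fun y => by rw [hma, hmb]; exact ⟨hull_swap, hull_swap⟩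
  have hpe : (a :: la).prod = (b :: lb).prod :=
    hperm.prod_eq' (List.pairwise_of_forall_mem_list hcomm)
  refine ⟨a :: la, List.nodup_cons.2 ⟨hala, hla⟩, by simp [hlal], ?_, hma⟩
  -- the product centralises the transpositions commuting with `a` or with `b`
  have key : ∀ {u : G} {l : List G} {v w : G}, (∀ y, y ∈ u :: l ↔ Hull D u v w y) →
      (∀ y ∈ link D u, Commute l.prod y) → ∀ y ∈ D, Commute u y → Commute (u :: l).prod y := by
    intro u l v w hm hcl' y hy huy
    rw [List.prod_cons]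
    refine Commute.mul_left huy ?_
    by_cases e : y = u
    · rw [e]
      exact (Commute.list_prod_right l u fun z hz => ((hm z).1 (List.mem_cons_of_mem _ hz)).2.1.symm).symm
    · exact hcl' y ⟨hy, e, huy⟩
  set p := (a :: la).prod with hp
  have pa := key hma hca
  have pb : ∀ y ∈ D, Commute b y → Commute p y := fun y hy hby => hpe ▸ key hmb hcb y hy hby
  let K := Subgroup.closure {y : G | y ∈ D ∧ Commute p y}
  obtain ⟨-, hmax⟩ := ThreeTransp.commSet_maximal hD hprim ⟨a, ha, b, hb, hab, cab⟩ ha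
  have hK : Cfsg.IsDSubgroup D K := le_antisymm ((Subgroup.closure_le _).2 fun x hx => hx.2)
    (Subgroup.closure_mono fun x hx => ⟨hx.1, Subgroup.subset_closure hx⟩)
  rcases hmax K hK (Subgroup.closure_mono fun y hy => ⟨hy.1, pa y hy.1 hy.2⟩) with e | e
  · exfalso
    refine hab (ht a ha b hb fun y hy => (twin_of_le hDd hcl hb ha ?_ y hy))
    intro z hz hbz
    have hzK : z ∈ K := Subgroup.subset_closure ⟨hz, pb z hz hbz⟩
    rw [e] at hzK
    have : Subgroup.closure {y : G | y ∈ D ∧ Commute a y} ≤ Subgroup.centralizer ({a} : Set G) :=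
      (Subgroup.closure_le _).2 fun w hw => Subgroup.mem_centralizer_singleton_iff.2 hw.2.eq.symm
    exact (Subgroup.mem_centralizer_singleton_iff.1 (this hzK)).symm
  · have : p ∈ Subgroup.center G := Subgroup.mem_center_iff.2 fun g => by
      have hle : K ≤ Subgroup.centralizer ({p} : Set G) :=
        (Subgroup.closure_le _).2 fun w hw => Subgroup.mem_centralizer_singleton_iff.2 hw.2.eq.symm
      exact Subgroup.mem_centralizer_singleton_iff.1 (hle (e ▸ Subgroup.mem_top g))
    rwa [hcen, Subgroup.mem_bot] at this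

namespace M22Prim

variable (P : M22Prim D)
include P

theorem center : Subgroup.center G = ⊥ := P.hyp.sol _ inferInstance
  (Group.isSolvable_of_comm fun x y => Subtype.ext (Subgroup.mem_center_iff.1 x.2 y).symm)

theorem data : Data D := data_of_group P.grp

theorem width {a : G} (ha : a ∈ D) : ∃ a ∈ D, ∃ b ∈ D, a ≠ b ∧ Commute a b := by
  obtain ⟨b, hb⟩ := P.hyp.link_nonempty ha
  exact ⟨a, ha, b, hb.1, hb.2.1.symm, hb.2.2⟩

/-- An element fixing the commuting set of `a` and one more transposition is trivial. -/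
theorem eq_one_of_fix {a : G} (ha : a ∈ D) {x : G} (hx : ∀ y ∈ D, Commute a y → Commute x y)
    {y₀ : G} (hy₀ : y₀ ∈ D) (hay : ¬ Commute a y₀) (hxy : Commute x y₀) : x = 1 := by
  obtain ⟨-, hmax⟩ := ThreeTransp.commSet_maximal P.grp P.prim (P.width ha) ha
  set K := Subgroup.closure {y : G | y ∈ D ∧ Commute x y}
  have hK : Cfsg.IsDSubgroup D K := le_antisymm ((Subgroup.closure_le _).2 fun w hw => hw.2)
    (Subgroup.closure_mono fun w hw => ⟨hw.1, Subgroup.subset_closure hw⟩)
  rcases hmax K hK (Subgroup.closure_mono fun w hw => ⟨hw.1, hx w hw.1 hw.2⟩) with e | e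
  · have : y₀ ∈ K := Subgroup.subset_closure ⟨hy₀, hxy⟩
    rw [e] at this
    exact absurd (commute_of_mem_commGrp this).symm hay
  · have : x ∈ Subgroup.center G := Subgroup.mem_center_iff.2 fun g => by
      have hle : K ≤ Subgroup.centralizer ({x} : Set G) :=
        (Subgroup.closure_le _).2 fun w hw => Subgroup.mem_centralizer_singleton_iff.2 hw.2.eq.symm
      exact Subgroup.mem_centralizer_singleton_iff.1 (hle (e ▸ Subgroup.mem_top g))
    rwa [P.center, Subgroup.mem_bot] at this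

/-- Only `a` acts trivially on the link of `a`. -/
theorem kernel {a : G} (ha : a ∈ D) {x : G} (hxa : Commute x a)
    (hx : ∀ y ∈ link D a, Commute x y) : x = 1 ∨ x = a := by
  have H := P.hyp
  have hD := P.data
  have hfix : ∀ y ∈ D, Commute a y → Commute x y := fun y hy hay => by
    by_cases e : y = a
    · rw [e]; exact hxa
    · exact hx y ⟨hy, e, hay⟩
  obtain ⟨b, hb⟩ := H.link_nonempty ha
  have hxb : cj x b = b := (cj_eq_self_iff x b).2 (hx b hb)
  obtain ⟨F, _, _, hF, ρ, himg, hinj, hrefl⟩ := H.exists_link_hom hb.1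
  have hab : a ∈ link D b := ⟨ha, hb.2.1.symm, hb.2.2.symm⟩
  set a' : ↥(Subgroup.closure (link D b)) := ⟨a, Subgroup.subset_closure hab⟩
  have haT : ρ a' ∈ allTT hF := himg ▸ ⟨a', hab, rfl⟩
  obtain ⟨Y, hY, hPY⟩ : ∃ Y ∈ allTT hF, ¬ Commute (ρ a') Y := by
    obtain ⟨p, x₁, y₁, -, -, -, hx₁, hy₁, -, -, -, hne, -, -, -, -, -, -, hn, -⟩ :=
      exists_config hF (allTT_data hF) ⟨ρ a', haT⟩
    exact ThreeTransp.exists_not_commute (allTT_class hF)
      ⟨x₁, hx₁, y₁, hy₁, fun e => hn (e ▸ Commute.refl x₁)⟩ haT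
  obtain ⟨y', hy', rfl⟩ : ∃ y' ∈ linkSet D b, ρ y' = Y := by rw [← himg] at hY; exact hY
  have hay : ¬ Commute a (y' : G) := fun h => hPY ((show Commute a' y' from Subtype.ext h.eq).map ρ)
  have hr : cj x (y' : G) ∈ link D b := by
    have h : cj x (y' : G) ∈ cj x '' link D b := ⟨_, hy', rfl⟩
    rwa [link_image hD, hxb] at h
  set r : ↥(Subgroup.closure (link D b)) := ⟨cj x y', Subgroup.subset_closure hr⟩
  have h3 := line_three hF haT hY (R := ρ r) (himg ▸ Set.mem_image_of_mem ρ (show r ∈ linkSet D b from hr)) hPY (fun q hq h1 h2 => by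
    rw [← himg] at hq
    obtain ⟨z, hz, rfl⟩ := hq
    have e1 : Commute (z : G) a := hrefl z a' hab h1
    have e2 : Commute (z : G) (y' : G) := hrefl z y' hy' h2
    have e3 : Commute (cj x (z : G)) (cj x (y' : G)) := (cj_commute_iff x _ _).2 e2
    rw [(cj_eq_self_iff x (z : G)).2 (hfix _ hz.1 e1.symm)] at e3
    exact (show Commute z r from Subtype.ext e3.eq).map ρ)
  rcases h3 with e | e | e
  · have := congrArg Subtype.val (hinj hr hab e)
    exfalso
    refine hay ?_
    rw [show (y' : G) = a from cj_injective x (this.trans ((cj_eq_self_iff x a).2 hxa).symm)]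
  · left
    exact P.eq_one_of_fix ha hfix hy'.1 hay
      ((cj_eq_self_iff x _).1 (congrArg Subtype.val (hinj hr hy' e)))
  · right
    have hmem : cj a' y' ∈ linkSet D b := conj_linkSet hD a' hy'
    have := congrArg Subtype.val (hinj hr hmem (e.trans (by simp [cj])))
    have hax : a * x = 1 := by
      refine P.eq_one_of_fix ha (fun y hy hc => hc.mul_left (hfix y hy hc)) hy'.1 hay ?_
      refine (cj_eq_self_iff _ _).1 ?_
      rw [cj_mul, show cj x (y' : G) = cj a (y' : G) from this, hD.cj_cj ha]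
    exact (eq_inv_of_mul_eq_one_right hax).trans (hD.inv_eq ha)

/-- The homomorphism of the link group, with its kernel. -/
theorem exists_link_epi {a : G} (ha : a ∈ D) :
    ∃ (F : Type) (_ : Field F) (_ : Fintype F) (hF : Fintype.card F = 4)
      (ρ : ↥(Subgroup.closure (link D a)) →* Cfsg.PSU 6 F 2),
      Function.Surjective ρ ∧ ρ '' linkSet D a = allTT hF ∧ Set.InjOn ρ (linkSet D a) ∧
        (∀ h, ∀ y ∈ linkSet D a, Commute (ρ h) (ρ y) → Commute (h : G) (y : G)) ∧
        ∀ h, ρ h = 1 ↔ (h : G) = 1 ∨ (h : G) = a := by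
  obtain ⟨F, i1, i2, hF, ρ, himg, hinj, hrefl⟩ := P.hyp.exists_link_hom ha
  have hsurj : Function.Surjective ρ := by
    rw [← MonoidHom.range_eq_top, eq_top_iff, ← (allTT_class hF).2.2, Subgroup.closure_le]
    rintro q hq
    rw [← himg] at hq
    obtain ⟨z, -, rfl⟩ := hq
    exact ⟨z, rfl⟩
  refine ⟨F, i1, i2, hF, ρ, hsurj, himg, hinj, hrefl, fun h => ⟨fun e => ?_, fun e => ?_⟩⟩
  · exact P.kernel ha (commute_d h.2).symm fun y hy =>
      hrefl h ⟨y, Subgroup.subset_closure hy⟩ hy (e ▸ Commute.one_left _)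
  · have hall : ∀ g : ↥(Subgroup.closure (link D a)), Commute h g := fun g => by
      refine Subtype.ext ?_
      show (h : G) * g = g * h
      rcases e with e | e <;> rw [e]
      · simp
      · exact (commute_d g.2).eq
    have : ρ h ∈ Subgroup.center (Cfsg.PSU 6 F 2) := Subgroup.mem_center_iff.2 fun u => by
      obtain ⟨g, rfl⟩ := hsurj u
      exact ((hall g).map ρ).eq.symm
    rwa [psu_center hF, Subgroup.mem_bot] at this

theorem link_le {a : G} : Subgroup.closure (link D a) ≤ commGrp D a :=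
  Subgroup.closure_mono fun _ h => ⟨h.1, h.2.2⟩

/-- Elements of order three in the centraliser of `a` lie in the group of its commuting set. -/
theorem cube_mem {a : G} (ha : a ∈ D) {x : G} (hxa : Commute x a) (hx3 : x ^ 3 = 1) :
    x ∈ commGrp D a := by
  classical
  have H := P.hyp
  have hD := P.data
  obtain ⟨F, _, _, hF, ρ, hsurj, himg, hinj, hrefl, hker⟩ := P.exists_link_epi ha
  have hcjlink : ∀ {g : G}, Commute g a → ∀ y ∈ link D a, cj g y ∈ link D a := fun {g} hg y hy => by
    have h : cj g y ∈ cj g '' link D a := ⟨y, hy, rfl⟩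
    rwa [link_image hD, (cj_eq_self_iff g a).2 hg] at h
  have hcjH : ∀ {g : G}, Commute g a → ∀ h ∈ Subgroup.closure (link D a),
      cj g h ∈ Subgroup.closure (link D a) := fun {g} hg h hh => by
    induction hh using Subgroup.closure_induction with
    | mem y hy => exact Subgroup.subset_closure (hcjlink hg y hy)
    | one => simp [cj]
    | mul u v _ _ hu hv => rw [cj_map_mul]; exact Subgroup.mul_mem _ hu hv
    | inv u _ hu => rw [cj_map_inv]; exact Subgroup.inv_mem _ hu
  -- conjugation by elements centralising `a`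
  let act' : ∀ g : G, Commute g a → ↥(Subgroup.closure (link D a)) →
      ↥(Subgroup.closure (link D a)) := fun g hg h => ⟨cj g h, hcjH hg h h.2⟩
  have hcongr : ∀ (g : G) (hg : Commute g a) (h h' : ↥(Subgroup.closure (link D a))),
      ρ h = ρ h' → ρ (act' g hg h) = ρ (act' g hg h') := fun g hg h h' e => by
    have h1 := (hker (h⁻¹ * h')).1 (by rw [map_mul, map_inv, e, inv_mul_cancel])
    have h2 : ρ ((act' g hg h)⁻¹ * act' g hg h') = 1 := by
      refine (hker _).2 ?_
      rw [show (((act' g hg h)⁻¹ * act' g hg h' : ↥(Subgroup.closure (link D a))) : G) =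
        cj g ((h⁻¹ * h' : ↥(Subgroup.closure (link D a))) : G) by simp [act', cj_map_mul, cj_map_inv]]
      rcases h1 with e | e <;> rw [e]
      · exact Or.inl (by simp [cj])
      · exact Or.inr ((cj_eq_self_iff g a).2 hg)
    rwa [map_mul, map_inv, inv_mul_eq_one] at h2
  have hxi : Commute x⁻¹ a := hxa.inv_left
  let f : ∀ g : G, Commute g a → Cfsg.PSU 6 F 2 → Cfsg.PSU 6 F 2 := fun g hg u =>
    ρ (act' g hg (Function.surjInv hsurj u))
  have hf : ∀ (g : G) (hg : Commute g a) (h), f g hg (ρ h) = ρ (act' g hg h) := fun g hg h =>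
    hcongr g hg _ _ (Function.surjInv_eq hsurj _)
  let β : MulAut (Cfsg.PSU 6 F 2) :=
    { toFun := f x hxa
      invFun := f x⁻¹ hxi
      left_inv := fun u => by
        obtain ⟨h, rfl⟩ := hsurj u
        show f x⁻¹ hxi (f x hxa (ρ h)) = ρ h
        rw [hf x hxa, hf x⁻¹ hxi]
        exact congrArg ρ (Subtype.ext (cj_inv_cj x _))
      right_inv := fun u => by
        obtain ⟨h, rfl⟩ := hsurj u
        show f x hxa (f x⁻¹ hxi (ρ h)) = ρ h
        rw [hf x⁻¹ hxi, hf x hxa]
        exact congrArg ρ (Subtype.ext (cj_cj_inv x _))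
      map_mul' := fun u v => by
        obtain ⟨h, rfl⟩ := hsurj u
        obtain ⟨h', rfl⟩ := hsurj v
        rw [← map_mul ρ h h', hf x hxa, hf x hxa, hf x hxa, ← map_mul]
        exact congrArg ρ (Subtype.ext (cj_map_mul x _ _)) }
  have hβ : ∀ h, β (ρ h) = ρ (act' x hxa h) := hf x hxa
  have hβ3 : β ^ 3 = 1 := by
    refine MulEquiv.ext fun u => ?_
    obtain ⟨h, rfl⟩ := hsurj u
    show β (β (β (ρ h))) = ρ h
    rw [hβ, hβ, hβ]
    refine congrArg ρ (Subtype.ext ?_)
    show cj x (cj x (cj x (h : G))) = h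
    rw [← cj_mul, ← cj_mul, show x * x * x = x ^ 3 by simp [pow_succ], hx3, cj_one]
  obtain ⟨o, ho⟩ := TTClass.UnitF4.exists_omega hF
  obtain ⟨i, u, hi, hiu⟩ := auto_three hF β hβ3 ho
  obtain ⟨h₀, rfl⟩ := hsurj u
  -- remove the inner part
  set x' := x * (h₀ : G)⁻¹ with hx'
  have hh₀ : Commute (h₀ : G) a := (commute_d h₀.2).symm
  have hx'a : Commute x' a := hxa.mul_left hh₀.inv_left
  have key : ∀ y : ↥(Subgroup.closure (link D a)),
      ρ (act' x' hx'a y) = (AutPSU.conjAut (dGU hF o ho) ^ i : MulAut (Cfsg.PSU 6 F 2)) (ρ y) := by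
    intro y
    have e : act' x' hx'a y = act' x hxa (h₀⁻¹ * y * h₀) := Subtype.ext (by simp [act', cj, hx', mul_assoc])
    rw [e, ← hβ, hiu]
    simp [mul_assoc]
  suffices hx'K : x' ∈ commGrp D a by
    have := Subgroup.mul_mem _ hx'K (P.link_le h₀.2)
    rwa [hx', inv_mul_cancel_right] at this
  have hmem : ∀ y (hy : y ∈ linkSet D a), act' x' hx'a y ∈ linkSet D a := fun y hy =>
    hcjlink hx'a _ hy
  rcases Nat.eq_zero_or_pos i with rfl | hi0
  · have : x' = 1 ∨ x' = a := P.kernel ha hx'a fun y hy => by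
      have hy' : (⟨y, Subgroup.subset_closure hy⟩ : ↥(Subgroup.closure (link D a))) ∈ linkSet D a := hy
      have e := hinj (hmem _ hy') hy' (by rw [key, pow_zero, MulAut.one_apply])
      exact (cj_eq_self_iff x' y).1 (congrArg Subtype.val e)
    rcases this with e | e <;> rw [e]
    · exact one_mem _
    · exact Subgroup.subset_closure ⟨ha, Commute.refl a⟩
  exfalso
  -- the six through the triangle
  have hpe : ∀ j : Fin 3, tri hF j ∈ allTT hF := fun j => ⟨_, h_pvec hF .., fun e => by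
    obtain ⟨x, y, z⟩ := pvec_eq_zero e
    fin_cases j <;> simp at x y z, rfl⟩
  have hl : ∀ j : Fin 3, ∃ y ∈ linkSet D a, ρ y = tri hF j := fun j => by
    have := hpe j; rw [← himg] at this; exact this
  choose e he he' using hl
  have hne : ∀ j k : Fin 3, j ≠ k → (e j : G) ≠ e k := fun j k hjk h => by
    have h' := congrArg ρ (Subtype.ext h : e j = e k)
    rw [he', he'] at h'
    revert h'
    refine pvec_ne hF _ _ _ _ _ _ ?_ ?_ fun c ⟨c1, c2, c3⟩ => ?_
    · intro h; obtain ⟨x, y, z⟩ := pvec_eq_zero h; fin_cases j <;> simp at x y z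
    · intro h; obtain ⟨x, y, z⟩ := pvec_eq_zero h; fin_cases k <;> simp at x y z
    · fin_cases j <;> fin_cases k <;> simp at c1 c2 c3 hjk
  have hcm : ∀ j k : Fin 3, Commute (e j : G) (e k) := fun j k => hrefl (e j) (e k) (he k) (by
    rw [he', he']; exact tt_commute hF (h_pvec hF ..) (h_pvec hF ..) (h_pvec hF ..))
  obtain ⟨s, hsn, hsl, hsp, hsm⟩ := hexad P.grp P.prim P.hyp (he 0).1 (he 1).1 (he 2).1
    (hne 0 1 (by decide)) (hne 0 2 (by decide)) (hne 1 2 (by decide)) (hcm 0 1) (hcm 0 2) (hcm 1 2)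
  have hes : ∀ j, (e j : G) ∈ s := fun j => by
    refine (hsm _).2 ⟨(he j).1, hcm j 0, hcm j 1, hcm j 2, fun z _ h0 h1 h2 => ?_⟩
    fin_cases j
    exacts [h0, h1, h2]
  have hscomm : ∀ u ∈ s, ∀ v ∈ s, Commute u v := fun u hu v hv => by
    have h1 := (hsm u).1 hu
    exact ((hsm v).1 hv).2.2.2.2 u h1.1 h1.2.1 h1.2.2.1 h1.2.2.2.1
  have hsa : ∀ z ∈ s, Commute a z := fun z hz =>
    ((hsm z).1 hz).2.2.2.2 a ha (he 0).2.2 (he 1).2.2 (he 2).2.2
  -- lists inside the link
  have toH : ∀ m : List G, (∀ z ∈ m, z ∈ s) → a ∉ m → m.Nodup → (m.prod = 1 ∨ m.prod = a) →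
      Fac (allTT hF) ((m.filterMap fun z =>
        if h : z ∈ link D a then some (ρ ⟨z, Subgroup.subset_closure h⟩) else none)) ∧
      (m.filterMap fun z =>
        if h : z ∈ link D a then some (ρ ⟨z, Subgroup.subset_closure h⟩) else none).length = m.length ∧
      (m.filterMap fun z =>
        if h : z ∈ link D a then some (ρ ⟨z, Subgroup.subset_closure h⟩) else none).prod = 1 := by
    intro m hms ham hnd hprod
    have hml : ∀ z ∈ m, z ∈ link D a := fun z hz =>
      ⟨((hsm z).1 (hms z hz)).1, fun e => ham (e ▸ hz), hsa z (hms z hz)⟩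
    let t : List ↥(Subgroup.closure (link D a)) :=
      m.pmap (fun z hz => ⟨z, Subgroup.subset_closure hz⟩) hml
    have et : t.map Subtype.val = m := by simp [t, List.map_pmap, List.pmap_eq_map]
    have hts : ∀ z ∈ t, z ∈ linkSet D a := fun z hz => hml _ (et ▸ List.mem_map_of_mem hz)
    have ef : (m.filterMap fun z =>
        if h : z ∈ link D a then some (ρ ⟨z, Subgroup.subset_closure h⟩) else none) = t.map ρ := by
      rw [← et, List.filterMap_map, List.filterMap_congr (g := fun z => some (ρ z)) fun z hz => by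
        simp only [Function.comp_apply, dif_pos (show (z : G) ∈ link D a from hts z hz)],
        ← List.filterMap_eq_map]
      rfl
    rw [ef]
    refine ⟨⟨(List.Nodup.of_map Subtype.val (et ▸ hnd)).map_on fun z hz w hw e =>
      hinj (hts z hz) (hts w hw) e, ?_, ?_⟩, by rw [List.length_map, ← et, List.length_map], ?_⟩
    · intro q hq
      obtain ⟨z, hz, rfl⟩ := List.mem_map.1 hq
      exact himg ▸ ⟨z, hts z hz, rfl⟩
    · intro q hq q' hq'
      obtain ⟨z, hz, rfl⟩ := List.mem_map.1 hq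
      obtain ⟨z', hz', rfl⟩ := List.mem_map.1 hq'
      refine (show Commute z z' from Subtype.ext ?_).map ρ
      exact (hscomm _ (hms _ (et ▸ List.mem_map_of_mem hz)) _
        (hms _ (et ▸ List.mem_map_of_mem hz'))).eq
    · rw [← map_list_prod, hker, ← Subgroup.coe_subtype, map_list_prod]
      show (t.map Subtype.val).prod = 1 ∨ (t.map Subtype.val).prod = a
      rwa [et]
  have inF : ∀ (m : List G) (z : G) (hz : z ∈ link D a), z ∈ m →
      ρ ⟨z, Subgroup.subset_closure hz⟩ ∈ m.filterMap fun z =>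
        if h : z ∈ link D a then some (ρ ⟨z, Subgroup.subset_closure h⟩) else none :=
    fun m z hz hm => List.mem_filterMap.2 ⟨z, hm, by rw [dif_pos hz]⟩
  have has : a ∉ s := by
    intro has
    obtain ⟨hf5, hl5, hp5⟩ := toH (s.erase a) (fun z hz => List.mem_of_mem_erase hz)
      hsn.not_mem_erase (hsn.erase a) (Or.inr (by
        have h := (List.perm_cons_erase has).prod_eq' (List.pairwise_of_forall_mem_list hscomm)
        rw [hsp, List.prod_cons] at h
        rw [eq_inv_of_mul_eq_one_right h.symm, hD.inv_eq ha]))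
    have ein : ∀ j, tri hF j ∈ (s.erase a).filterMap fun z =>
        if h : z ∈ link D a then some (ρ ⟨z, Subgroup.subset_closure h⟩) else none := fun j => by
      rw [← he' j]
      exact inF _ _ (he j) ((List.mem_erase_of_ne (he j).2.1).2 (hes j))
    have h01 : tri hF 0 ≠ tri hF 1 := fun h => hne 0 1 (by decide)
      (congrArg Subtype.val (hinj (he 0) (he 1) (by rw [he', he', h])))
    obtain ⟨L, hL, hLl, hLp, hLm⟩ := line_exists hF (allTT_data hF) (hpe 0) (hpe 1) h01
      (hf5.comm _ (ein 0) _ (ein 1))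
    have hLc : ∀ q ∈ L, ∀ q' ∈ L, Commute q q' := fun q hq q' hq' => by
      obtain ⟨q0, q1, q2, -⟩ := (hLm q).1 hq
      exact ((hLm q').1 hq').2.2.2 q q0 q1 q2
    have h2L := five_eq hF hf5 ⟨hL, fun q hq => ((hLm q).1 hq).1, hLc⟩
      (by rw [hl5, List.length_erase_of_mem has, hsl]) hLl hp5 hLp (ein 0) (ein 1)
      ((hLm _).2 ⟨hpe 0, Commute.refl _, hf5.comm _ (ein 0) _ (ein 1), fun _ _ h _ => h⟩)
      ((hLm _).2 ⟨hpe 1, hf5.comm _ (ein 1) _ (ein 0), Commute.refl _, fun _ _ _ h => h⟩) h01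
      _ (ein 2)
    let x₀ : Fin 6 → F := Pi.single 4 1 + Pi.single 5 o
    have h2 := TTClass.UnitF4.two_eq_zero hF
    have hx₀ : TTClass.UnitF4.H x₀ x₀ = 0 := by
      simp [x₀, TTClass.UnitF4.H, Cfsg.hermForm, Fin.sum_univ_six, Pi.single_apply]
      linear_combination (o - 1) * ho + h2
    have hx₀0 : x₀ ≠ 0 := fun h => one_ne_zero (α := F) (by simpa [x₀] using congrFun h 4)
    have hc := ((hLm _).1 h2L).2.2.2 _ ⟨x₀, hx₀, hx₀0, rfl⟩
      (tt_commute hF hx₀ (h_pvec hF ..) (by
        simp [x₀, TTClass.UnitF4.H, Cfsg.hermForm, Fin.sum_univ_six, Pi.single_apply, pvec]))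
      (tt_commute hF hx₀ (h_pvec hF ..) (by
        simp [x₀, TTClass.UnitF4.H, Cfsg.hermForm, Fin.sum_univ_six, Pi.single_apply, pvec]))
    have := orth_of_tt hF hx₀ hx₀0 (h_pvec hF ..) (fun h => by simpa using (pvec_eq_zero h).2.2) hc
    simp [x₀, TTClass.UnitF4.H, Cfsg.hermForm, Fin.sum_univ_six, Pi.single_apply, pvec] at this
    have ho0 : o = 0 := eq_zero_of_pow_eq_zero (n := 2) (by linear_combination ho - this)
    rw [ho0] at ho
    simp at ho
  obtain ⟨hF6, hl6, hp6⟩ := toH s (fun _ h => h) has hsn (Or.inl hsp)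
  set S := s.filterMap fun z =>
    if h : z ∈ link D a then some (ρ ⟨z, Subgroup.subset_closure h⟩) else none with hSdef
  have htri : ∀ j, tri hF j ∈ S := fun j => by rw [← he' j]; exact inF _ _ (he j) (hes j)
  have hdel : ∀ j, (AutPSU.conjAut (dGU hF o ho) : MulAut (Cfsg.PSU 6 F 2)) (tri hF j) = tri hF j := by
    intro j
    rw [tri, conjAut_dGU hF ho (h_pvec hF ..), dmap_pvec hF]
    fin_cases j
    · simp
    · simp
    · have hz : TTClass.UnitF4.H (pvec (0 : F) 0 1) (pvec 0 0 1) = 0 := h_pvec hF ..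
      have ho0 : o ≠ 0 := by rintro rfl; simp at ho
      simp only [Fin.reduceFinMk, Fin.isValue, Fin.reduceEq, if_false, if_true]
      rw [show pvec (0 : F) 0 (o * 1) = o • pvec (0 : F) 0 1 by funext i; fin_cases i <;> simp [pvec],
        tt_eq hF (by rw [TTClass.UnitF4.h_smul_left, TTClass.UnitF4.h_smul_right, hz]; simp),
        tt_eq hF hz, tSU_smul hF hz ho0]
  have hfixe : ∀ j, cj x' (e j : G) = e j := fun j => by
    have : act' x' hx'a (e j) = e j := hinj (hmem _ (he j)) (he j) (by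
      rw [key, he']
      clear hi0 hi hiu key
      induction i with
      | zero => simp
      | succ i ih => rw [pow_succ, MulAut.mul_apply, hdel, ih])
    exact congrArg Subtype.val this
  have hpow : ∀ q ∈ S, (AutPSU.conjAut (dGU hF o ho) ^ i : MulAut (Cfsg.PSU 6 F 2)) q ∈ S := by
    intro q hq
    obtain ⟨z, hzs, hz⟩ := List.mem_filterMap.1 hq
    split_ifs at hz with hzl
    obtain rfl := Option.some.inj hz
    rw [← key]
    refine inF s _ (hcjlink hx'a _ hzl) ?_
    obtain ⟨z1, z2, z3, z4, z5⟩ := (hsm z).1 hzs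
    refine (hsm _).2 ⟨hD.inv' x' z z1, ?_, ?_, ?_, ?_⟩
    · rw [← hfixe 0]; exact (cj_commute_iff x' _ _).2 z2
    · rw [← hfixe 1]; exact (cj_commute_iff x' _ _).2 z3
    · rw [← hfixe 2]; exact (cj_commute_iff x' _ _).2 z4
    · intro w hw w0 w1 w2
      obtain ⟨w', rfl⟩ : ∃ w', cj x' w' = w := ⟨cj x'⁻¹ w, cj_cj_inv x' w⟩
      rw [cj_commute_iff]
      refine z5 w' (by simpa [cj_inv_cj] using hD.inv' x'⁻¹ _ hw) ?_ ?_ ?_ <;>
        rw [← cj_commute_iff x', hfixe]
      exacts [w0, w1, w2]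
  refine six_not_fixed hF ho hF6 (by rw [hl6, hsl]) hp6 htri fun q hq => ?_
  obtain rfl | rfl : i = 1 ∨ i = 2 := by omega
  · simpa using hpow q hq
  · have h1 := hpow _ (hpow q hq)
    obtain ⟨v, hv, hv0, rfl⟩ := hF6.mem q hq
    rw [pow_two, MulAut.mul_apply, MulAut.mul_apply, conjAut_dGU hF ho hv] at h1
    have hiso : ∀ v : Fin 6 → F, TTClass.UnitF4.H v v = 0 → TTClass.UnitF4.H (dmap o v) (dmap o v) = 0 := by
      intro v hv
      rw [← hv]
      simp only [TTClass.UnitF4.H, Cfsg.hermForm, dmap]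
      exact Finset.sum_congr rfl fun k _ => by
        rw [mul_pow, show dvec o k * v k * (dvec o k ^ 2 * v k ^ 2) =
          dvec o k * dvec o k ^ 2 * (v k * v k ^ 2) by ring, dvec_norm hF ho k, one_mul]
    rw [conjAut_dGU hF ho (hiso v hv), conjAut_dGU hF ho (hiso _ (hiso v hv)),
      conjAut_dGU hF ho (hiso _ (hiso _ (hiso v hv)))] at h1
    rw [conjAut_dGU hF ho hv]
    convert h1 using 2
    funext k
    have h4 : dvec o k * (dvec o k * (dvec o k * (dvec o k * v k))) = dvec o k * v k := by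
      have := dvec_norm hF ho k
      linear_combination (dvec o k * v k) * this
    exact h4.symm

end M22Prim

end Cfsg.Agent.M22Trans.W
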