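import Cfsg.Agent.M22Trans.W.Hexads
import Cfsg.Agent.TTLink.M22Labels

/-!
Labels.
Adapted from `TTLink/M22Labels.lean`: the structure here asks for the weaker `M22Hyp` instead of `IsOfTypeM22`.
-/

set_option autoImplicit false
set_option linter.unusedSectionVars false

namespace Cfsg.Agent.M22Trans.W

open Cfsg.Agent.TTLink Cfsg.Agent.ThreeTransp45 Cfsg.Agent.SporB SixTable

variable {G : Type*} [Group G] [Finite G] {D : Set G}

namespace M22Prim

variable (P : M22Prim D) {R : Set G} (hR : IsHex D R)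
include P hR

theorem adj_fac {i g h : G} (hi : i ∈ R) (hg : Adj D R g) (hh : Adj D R h) (hgh : g ≠ h)
    (hc : Commute g h) : Fac D [i, g, h] := by
  refine ⟨?_, ?_, ?_⟩
  · simp only [List.nodup_cons, List.mem_cons, List.not_mem_nil, or_false, not_or, not_false_eq_true,
      List.nodup_nil, and_true]
    exact ⟨⟨fun e => hg.2.1 (e ▸ hi), fun e => hh.2.1 (e ▸ hi)⟩, hgh⟩
  · simp [P.hex_mem hR hi, hg.1, hh.1]
  · have a := hg.2.2 i hi
    have b := hh.2.2 i hi
    simp [a, b, hc, a.symm, b.symm, hc.symm]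

/-- A hexad through three points of `R` is `R`. -/
theorem hset_three {i g h j k : G} (hi : i ∈ R) (hf : Fac D [i, g, h]) (hj : j ∈ R) (hk : k ∈ R)
    (jm : j ∈ hset D i g h) (km : k ∈ hset D i g h) (hij : i ≠ j) (hik : i ≠ k) (hjk : j ≠ k) : g ∈ R := by
  have e1 := P.hset_eq hf (mem_hset_self hf).1 jm km hij hik hjk
  rw [(P.hex_eq hR hi hj hk hij hik hjk).2] at e1
  rw [e1]
  exact (mem_hset_self hf).2.1

theorem partner_unique {i g h j k : G} (hi : i ∈ R) (hg : Adj D R g) (hh : Adj D R h) (hgh : g ≠ h)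
    (hc : Commute g h) (hj : j ∈ R) (hji : j ≠ i) (jm : j ∈ hset D i g h) (hk : k ∈ R) (hki : k ≠ i)
    (km : k ∈ hset D i g h) : j = k := by
  by_contra hne
  exact hg.2.1 (P.hset_three hR hi (P.adj_fac hR hi hg hh hgh hc) hj hk jm km hji.symm hki.symm hne)

theorem partner_symm {i g h j : G} (hi : i ∈ R) (hg : Adj D R g) (hh : Adj D R h) (hgh : g ≠ h)
    (hc : Commute g h) (hj : j ∈ R) (jm : j ∈ hset D i g h) :
    hset D j g h = hset D i g h := by
  have hf := P.adj_fac hR hi hg hh hgh hc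
  exact P.hset_eq hf jm (mem_hset_self hf).2.1 (mem_hset_self hf).2.2 (fun e => hg.2.1 (e ▸ hj))
    (fun e => hh.2.1 (e ▸ hj)) hgh

variable (N : Num R)

theorem exists_lab {g h : G} (hg : Adj D R g) (hh : Adj D R h) (hgh : g ≠ h) (hc : Commute g h) :
    ∃ s, Lab D N g h s := by
  classical
  have hp : ∀ i : Fin 6, ∃ j, j ≠ i ∧ N.e j ∈ hset D (N.e i) g h := fun i => by
    obtain ⟨j, hj, hji, hjm⟩ := P.exists_partner hR (N.mem i) hg hh hgh hc
    obtain ⟨j, rfl⟩ := (N.range j).1 hj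
    exact ⟨j, fun e => hji (e ▸ rfl), hjm⟩
  choose p hp1 hp2 using hp
  have hinv : ∀ i, p (p i) = i := by
    intro i
    refine N.inj (P.partner_unique hR (N.mem (p i)) hg hh hgh hc (N.mem _) (N.inj.ne (hp1 _)) (hp2 _)
      (N.mem i) (N.inj.ne (hp1 i).symm) ?_)
    rw [P.partner_symm hR (N.mem i) hg hh hgh hc (N.mem _) (hp2 i)]
    exact (mem_hset_self (P.adj_fac hR (N.mem i) hg hh hgh hc)).1
  have pinj : Function.Injective p := Function.LeftInverse.injective hinv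
  obtain ⟨x, hx⟩ : ∃ x, x ∉ ({0, p 0} : Finset (Fin 6)) := by
    refine (Finset.exists_mem_notMem_of_card_lt_card (t := (Finset.univ : Finset (Fin 6))) ?_).imp fun x h => h.2
    rw [Finset.card_univ, Fintype.card_fin]
    exact lt_of_le_of_lt Finset.card_le_two (by norm_num)
  simp only [Finset.mem_insert, Finset.mem_singleton, not_or] at hx
  have b0 : p x ≠ 0 := fun e => hx.2 (by rw [← e, hinv])
  have ba : p x ≠ p 0 := fun e => hx.1 (pinj e)
  obtain ⟨s, hs0, hsx⟩ := exists_eq (p 0) (hp1 0) (p x) ba x hx.1 hx.2 (hp1 x).symm b0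
  have key : ∀ i, pr s i = p i := by
    intro i
    by_cases h0 : i = 0
    · rw [h0, hs0]
    by_cases ha : i = p 0
    · rw [ha, hinv, ← hs0, pr_pr]
    by_cases h1 : i = x
    · rw [h1, hsx]
    by_cases hb : i = p x
    · rw [hb, hinv, ← hsx, pr_pr]
    set T : Finset (Fin 6) := {0, p 0, x, p x, i}
    have hT : T.card = 5 := by
      simp only [T]
      rw [Finset.card_insert_of_notMem, Finset.card_insert_of_notMem, Finset.card_insert_of_notMem,
        Finset.card_insert_of_notMem, Finset.card_singleton] <;>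
        simp [Ne.symm h0, Ne.symm ha, Ne.symm h1, Ne.symm hb, (hp1 0).symm, Ne.symm hx.1, Ne.symm hx.2,
          Ne.symm b0, Ne.symm ba, (hp1 x).symm]
    have hnot : ∀ q : Fin 6 → Fin 6, (∀ j, q (q j) = j) → (∀ j, q j ≠ j) → q 0 = p 0 → q x = p x →
        q i ∉ T := by
      intro q hq1 hq2 q0 qx hm
      simp only [T, Finset.mem_insert, Finset.mem_singleton] at hm
      have qinj : Function.Injective q := Function.LeftInverse.injective hq1
      rcases hm with e | e | e | e | e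
      · exact ha (qinj (e.trans (by rw [← q0, hq1])))
      · exact h0 (qinj (e.trans q0.symm))
      · exact hb (qinj (e.trans (by rw [← qx, hq1])))
      · exact h1 (qinj (e.trans qx.symm))
      · exact hq2 i e
    have h1' := hnot _ (pr_pr s) (pr_ne s) hs0 hsx
    have h2' := hnot p hinv hp1 rfl rfl
    by_contra hne
    have : (insert (pr s i) (insert (p i) T)).card = 7 := by
      rw [Finset.card_insert_of_notMem (by simp [hne, h1']), Finset.card_insert_of_notMem h2', hT]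
    have hle := Finset.card_le_univ (insert (pr s i) (insert (p i) T))
    rw [this, Fintype.card_fin] at hle
    omega
  exact ⟨s, fun i => by rw [key]; exact hp2 i⟩

theorem lab_pr {g h : G} (hg : Adj D R g) (hh : Adj D R h) (hgh : g ≠ h) (hc : Commute g h) {s : Fin 15}
    (hs : Lab D N g h s) {i j : Fin 6} (hji : j ≠ i) (hj : N.e j ∈ hset D (N.e i) g h) : pr s i = j :=
  N.inj (P.partner_unique hR (N.mem i) hg hh hgh hc (N.mem _) (N.inj.ne (pr_ne s i)) (hs i) (N.mem j)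
    (N.inj.ne hji) hj)

theorem lab_unique {g h : G} (hg : Adj D R g) (hh : Adj D R h) (hgh : g ≠ h) (hc : Commute g h)
    {s t : Fin 15} (hs : Lab D N g h s) (ht : Lab D N g h t) : s = t :=
  pr_inj s t fun i => P.lab_pr hR N hg hh hgh hc hs (pr_ne t i) (ht i)

theorem lab_inj {g h k : G} (hg : Adj D R g) (hh : Adj D R h) (hk : Adj D R k) (hgh : g ≠ h)
    (hgk : g ≠ k) (ch : Commute g h) (ck : Commute g k) {s : Fin 15} (h1 : Lab D N g h s)
    (h2 : Lab D N g k s) : h = k := by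
  classical
  by_contra hne
  obtain ⟨x, hx⟩ : ∃ x, x ∉ ({0, pr s 0} : Finset (Fin 6)) := by
    refine (Finset.exists_mem_notMem_of_card_lt_card (t := (Finset.univ : Finset (Fin 6))) ?_).imp fun x h => h.2
    rw [Finset.card_univ, Fintype.card_fin]
    exact lt_of_le_of_lt Finset.card_le_two (by norm_num)
  simp only [Finset.mem_insert, Finset.mem_singleton, not_or] at hx
  have main : ∀ i, hset D (N.e i) g h = hset D g h k := by
    intro i
    have fh := P.adj_fac hR (N.mem i) hg hh hgh ch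
    have fk := P.adj_fac hR (N.mem i) hg hk hgk ck
    have nij : N.e i ≠ N.e (pr s i) := N.inj.ne (pr_ne s i).symm
    have e1 := P.hset_eq fh (mem_hset_self fh).1 (h1 i) (mem_hset_self fh).2.1 nij
      (fun e => hg.2.1 (e ▸ N.mem i)) (fun e => hg.2.1 (e ▸ N.mem _))
    have e2 := P.hset_eq fk (mem_hset_self fk).1 (h2 i) (mem_hset_self fk).2.1 nij
      (fun e => hg.2.1 (e ▸ N.mem i)) (fun e => hg.2.1 (e ▸ N.mem _))
    have kin : k ∈ hset D (N.e i) g h := by
      rw [← e1, e2]; exact (mem_hset_self fk).2.2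
    exact (P.hset_eq fh (mem_hset_self fh).2.1 (mem_hset_self fh).2.2 kin hgh hgk hne).symm
  have f0 := P.adj_fac hR (N.mem 0) hg hh hgh ch
  refine hg.2.1 (P.hset_three hR (N.mem 0) f0 (N.mem (pr s 0)) (N.mem x) (h1 0) ?_
    (N.inj.ne (pr_ne s 0).symm) (N.inj.ne (Ne.symm hx.1)) (N.inj.ne (Ne.symm hx.2)))
  rw [main 0, ← main x]
  exact (mem_hset_self (P.adj_fac hR (N.mem x) hg hh hgh ch)).1

theorem lab_line {g h k : G} (hg : Adj D R g) (hh : Adj D R h) (hk : Adj D R k) (hgh : g ≠ h)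
    (hgk : g ≠ k) (hhk : h ≠ k) (ch : Commute g h) (ck : Commute g k) {v w u : Fin 15}
    (hv : Lab D N g h v) (hw : Lab D N g k w) (hu : Lab D N h k u) {i : Fin 6} (e : pr v i = pr w i) :
    Line v w u ∧ pr u i = pr v i := by
  have chk := P.adj_trans hR hh hg hk ch.symm ck
  have fh := P.adj_fac hR (N.mem i) hg hh hgh ch
  have fk := P.adj_fac hR (N.mem i) hg hk hgk ck
  have nij : N.e i ≠ N.e (pr v i) := N.inj.ne (pr_ne v i).symm
  have n1 : N.e i ≠ g := fun e => hg.2.1 (e ▸ N.mem i)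
  have n2 : N.e (pr v i) ≠ g := fun e => hg.2.1 (e ▸ N.mem _)
  have e1 := P.hset_eq fh (mem_hset_self fh).1 (hv i) (mem_hset_self fh).2.1 nij n1 n2
  have e2 := P.hset_eq fk (mem_hset_self fk).1 (e ▸ hw i) (mem_hset_self fk).2.1 nij n1 n2
  have kin : k ∈ hset D (N.e i) g h := by
    rw [← e1, e2]; exact (mem_hset_self fk).2.2
  have e3 := P.hset_eq fh (mem_hset_self fh).1 (mem_hset_self fh).2.2 kin
    (fun e => hh.2.1 (e ▸ N.mem i)) (fun e => hk.2.1 (e ▸ N.mem i)) hhk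
  have hu' : pr u i = pr v i := P.lab_pr hR N hh hk hhk chk hu (pr_ne v i) (by rw [e3]; exact hv i)
  refine ⟨⟨fun h' => hhk ?_, fun h' => hgh ?_, fun h' => hgk ?_, i, e, by rw [hu', e]⟩, hu'⟩
  · exact P.lab_inj hR N hg hh hk hgh hgk ch ck hv (h' ▸ hw)
  · exact P.lab_inj hR N hk hg hh hgk.symm hhk.symm ck.symm chk.symm (h' ▸ hw.symm) hu.symm
  · exact P.lab_inj hR N hh hg hk hgh.symm hhk ch.symm chk (h' ▸ hv.symm) hu

/-- Every partition occurs exactly once at `g`. -/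
theorem lab_surj {g : G} (hg : Adj D R g) (s : Fin 15) :
    ∃ h, Adj D R h ∧ g ≠ h ∧ Commute g h ∧ Lab D N g h s := by
  classical
  set a := N.e 0
  set b := N.e (pr s 0)
  have hab : a ≠ b := N.inj.ne (pr_ne s 0).symm
  have hag : a ≠ g := fun e => hg.2.1 (e ▸ N.mem 0)
  have hbg : b ≠ g := fun e => hg.2.1 (e ▸ N.mem _)
  have hf : Fac D [a, b, g] := by
    refine ⟨by simp [hab, hag, hbg], by simp [a, b, P.hex_mem hR (N.mem _), hg.1], ?_⟩
    have c1 := hg.2.2 a (N.mem 0)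
    have c2 := hg.2.2 b (N.mem _)
    have c3 := P.hex_comm hR (N.mem 0) (N.mem (pr s 0))
    simp [a, b, c1, c2, c3, c1.symm, c2.symm, c3.symm]
  obtain ⟨ha, hb, hgm⟩ := mem_hset_self hf
  have h6 := P.hset_ncard hf
  have hadj : ∀ h ∈ hset D a b g, h ≠ a → h ≠ b → Adj D R h ∧ (h ≠ g → Commute g h ∧
      ∀ t, Lab D N g h t → pr t 0 = pr s 0) := by
    intro h hh ha' hb'
    have hnR : h ∉ R := fun hr => hg.2.1 (by
      have e1 := P.hset_eq hf ha hb hh hab ha'.symm hb'.symm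
      rw [(P.hex_eq hR (N.mem 0) (N.mem _) hr hab ha'.symm hb'.symm).2] at e1
      rw [e1]; exact hgm)
    have hA : Adj D R h := ⟨hh.1, hnR, fun r hr => (hh.2.2.2.2 r (P.hex_mem hR hr)
      (P.hex_comm hR hr (N.mem 0)) (P.hex_comm hR hr (N.mem _)) (hg.2.2 r hr).symm).symm⟩
    refine ⟨hA, fun hne => ⟨hh.2.2.2.1.symm, fun t ht => ?_⟩⟩
    refine P.lab_pr hR N hg hA hne.symm hh.2.2.2.1.symm ht (pr_ne s 0) ?_
    show b ∈ hset D a g h
    rw [P.hset_eq hf ha hgm hh hag ha'.symm hne.symm]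
    exact hb
  have hcard : (hset D a b g \ {a, b, g}).ncard = 3 := by
    rw [Set.ncard_sdiff (by rintro z (rfl | rfl | rfl) <;> assumption), h6,
      Set.ncard_eq_three.2 ⟨a, b, g, hab, hag, hbg, rfl⟩]
  obtain ⟨x, y, z, hxy, hxz, hyz, hS⟩ := Set.ncard_eq_three.1 hcard
  have mem : ∀ h ∈ hset D a b g \ {a, b, g}, ∃ t, Adj D R h ∧ g ≠ h ∧ Commute g h ∧ Lab D N g h t ∧
      pr t 0 = pr s 0 := by
    rintro h ⟨hh, hn⟩
    simp only [Set.mem_insert_iff, Set.mem_singleton_iff, not_or] at hn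
    obtain ⟨hA, h'⟩ := hadj h hh hn.1 hn.2.1
    obtain ⟨hc, hl⟩ := h' hn.2.2
    obtain ⟨t, ht⟩ := P.exists_lab hR N hg hA (Ne.symm hn.2.2) hc
    exact ⟨t, hA, Ne.symm hn.2.2, hc, ht, hl t ht⟩
  rw [hS] at mem
  obtain ⟨tx, Ax, nx, cx, lx, px⟩ := mem x (by simp)
  obtain ⟨ty, Ay, ny, cy, ly, py⟩ := mem y (by simp)
  obtain ⟨tz, Az, nz, cz, lz, pz⟩ := mem z (by simp)
  have nxy : tx ≠ ty := fun e => hxy (P.lab_inj hR N hg Ax Ay nx ny cx cy lx (e ▸ ly))
  have nxz : tx ≠ tz := fun e => hxz (P.lab_inj hR N hg Ax Az nx nz cx cz lx (e ▸ lz))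
  have nyz : ty ≠ tz := fun e => hyz (P.lab_inj hR N hg Ay Az ny nz cy cz ly (e ▸ lz))
  rcases three_on_pair s tx px ty py tz pz nxy nxz nyz with rfl | rfl | rfl
  exacts [⟨x, Ax, nx, cx, lx⟩, ⟨y, Ay, ny, cy, ly⟩, ⟨z, Az, nz, cz, lz⟩]

/-- The labels of the sides of a triangle. -/
theorem lab_tri {g h k : G} (hg : Adj D R g) (hh : Adj D R h) (hk : Adj D R k) (hgh : g ≠ h)
    (hgk : g ≠ k) (hhk : h ≠ k) (ch : Commute g h) (ck : Commute g k) {v w u : Fin 15}
    (hv : Lab D N g h v) (hw : Lab D N g k w) (hu : Lab D N h k u) : Tri v w u := by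
  have chk := P.adj_trans hR hh hg hk ch.symm ck
  by_cases s1 : Sh v w
  · obtain ⟨i, e⟩ := s1
    exact Or.inl (P.lab_line hR N hg hh hk hgh hgk hhk ch ck hv hw hu e).1
  by_cases s2 : Sh v u
  · obtain ⟨i, e⟩ := s2
    exact absurd ⟨i, ((P.lab_line hR N hh hg hk hgh.symm hhk hgk ch.symm chk hv.symm hu hw e).2).symm⟩ s1
  by_cases s3 : Sh w u
  · obtain ⟨i, e⟩ := s3
    exact absurd ⟨i, (P.lab_line hR N hk hg hh hgk.symm hhk.symm hgh ck.symm chk.symm hw.symm hu.symm hv e).2⟩ s1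
  refine Or.inr ⟨s1, s3, s2, law v w s1 u s2 s3 fun m a la b lb nab => ?_⟩
  obtain ⟨p, hp, hgp, cp, hm⟩ := P.lab_surj hR N hg m
  have php : h ≠ p := fun e => la.1 (P.lab_unique hR N hg hp hgp cp (e ▸ hv) hm)
  have pkp : k ≠ p := fun e => lb.1 (P.lab_unique hR N hg hp hgp cp (e ▸ hw) hm)
  have chp := P.adj_trans hR hh hg hp ch.symm cp
  have ckp := P.adj_trans hR hk hg hp ck.symm cp
  obtain ⟨a', ha'⟩ := P.exists_lab hR N hh hp php chp
  obtain ⟨b', hb'⟩ := P.exists_lab hR N hk hp pkp ckp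
  obtain ⟨-, -, -, i, ei, -⟩ := id la
  obtain ⟨-, -, -, j, ej, -⟩ := id lb
  have ea := line_unique v m la.1 a la a' (P.lab_line hR N hg hh hp hgh hgp php ch cp hv hm ha' ei).1
  have eb := line_unique w m lb.1 b lb b' (P.lab_line hR N hg hk hp hgk hgp pkp ck cp hw hm hb' ej).1
  subst ea eb
  rintro ⟨l, el⟩
  exact nab ⟨l, (el.symm.trans (P.lab_line hR N hh hk hp hhk php pkp chk chp hu ha' hb' el).2.symm)⟩

theorem lab_map {f : MulAut G} (hf : ∀ y ∈ D, f y ∈ D) {π : Fin 6 → Fin 6} (hπ : Function.Injective π)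
    (he : ∀ i, f (N.e i) = N.e (π i)) {g h : G} (hg : Adj D R (f g)) (hh : Adj D R (f h)) (hgh : g ≠ h)
    (hc : Commute g h) {s t : Fin 15} (hs : Lab D N g h s) (ht : Lab D N (f g) (f h) t) (i : Fin 6) :
    pr t (π i) = π (pr s i) := by
  refine P.lab_pr hR N hg hh (f.injective.ne hgh) ((aut_commute_iff f g h).2 hc) ht
    (hπ.ne (pr_ne s i)) ?_
  rw [← he, ← he]
  exact hset_map hf (hs i)

end M22Prim

end Cfsg.Agent.M22Trans.W
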