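import Cfsg.Agent.M22Trans.W.Coord
import Cfsg.Agent.H77.Y332Words
import Cfsg.Agent.M22Trans.W.Classes

/-!
A chain of six transpositions commuting with a non-commuting pair extends to a system satisfying the
defining relations of the Fischer group on the diagram `Y₃₃₂`.
-/

set_option autoImplicit false
set_option linter.unusedSectionVars false

namespace Cfsg.Agent.M22Trans.W

open Cfsg.Agent.H77 Cfsg.Agent.ThreeTransp45 Cfsg.Agent.SporB Cfsg.Agent.TTLink Cfsg.Agent.TTLink.UnitarySix
  Cfsg.Agent.TTClass.UnitF4 CoxMoves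

/-- An element of order three inverted by an isolated involution. -/
theorem inverted_of_isolated {C : Type*} [Group C] [Finite C] {a u : C} (ha : a * a = 1)
    (hC : ∀ g : C, g * a = a * g → g = 1 ∨ g = a) (hu : u ^ 3 = 1) : a * u * a = u⁻¹ := by
  classical
  haveI := Fintype.ofFinite C
  by_cases ha1 : a = 1
  · rcases hC u (by rw [ha1]; simp) with h | h
    · simp [h, ha1]
    · simp [h, ha1]
  have hai : a⁻¹ = a := inv_eq_of_mul_eq_one_right ha
  set S := Finset.univ.image fun g : C => g * a * g⁻¹ with hS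
  set T := S.image (· * a) with hT
  have hcard : T.card = S.card := Finset.card_image_of_injective _ (mul_left_injective a)
  have hle : Fintype.card C ≤ 2 * S.card := by
    refine Finset.card_le_mul_card_image _ 2 fun s hs => ?_
    obtain ⟨g, -, rfl⟩ := Finset.mem_image.1 hs
    refine (Finset.card_le_card (t := ({g, g * a} : Finset C)) fun x hx => ?_).trans Finset.card_le_two
    have hx' : x * a * x⁻¹ = g * a * g⁻¹ := (Finset.mem_filter.1 hx).2
    have : (g⁻¹ * x) * a = a * (g⁻¹ * x) := by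
      calc (g⁻¹ * x) * a = g⁻¹ * (x * a * x⁻¹) * x := by group
        _ = a * (g⁻¹ * x) := by rw [hx']; group
    rcases hC _ this with h | h
    · simp [inv_mul_eq_one.1 h]
    · simp [inv_mul_eq_iff_eq_mul.1 h]
  have hdis : Disjoint S T := by
    rw [Finset.disjoint_left]
    intro x hx hx'
    obtain ⟨s, hs, rfl⟩ := Finset.mem_image.1 hx'
    obtain ⟨g, -, rfl⟩ := Finset.mem_image.1 hs
    obtain ⟨k, -, e⟩ := Finset.mem_image.1 hx
    have h2 : g * a * g⁻¹ * a * (g * a * g⁻¹ * a) = 1 := by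
      rw [← e, show k * a * k⁻¹ * (k * a * k⁻¹) = k * (a * a) * k⁻¹ by group, ha]; group
    have hgg : g * a * g⁻¹ * (g * a * g⁻¹) = 1 := by
      rw [show g * a * g⁻¹ * (g * a * g⁻¹) = g * (a * a) * g⁻¹ by group, ha]; group
    have hgi : (g * a * g⁻¹)⁻¹ = g * a * g⁻¹ := inv_eq_of_mul_eq_one_right hgg
    have hcm : g * a * g⁻¹ * a = a * (g * a * g⁻¹) := by
      have := inv_eq_of_mul_eq_one_right h2
      rwa [_root_.mul_inv_rev, hai, hgi, eq_comm] at this
    rcases hC _ hcm with h | h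
    · exact ha1 (conj_eq_one_iff.1 h)
    · rw [h, ha, conj_eq_one_iff] at e
      exact ha1 e
  have hall : S ∪ T = Finset.univ := by
    apply Finset.eq_univ_of_card
    have := Finset.card_le_univ (S ∪ T)
    rw [Finset.card_union_of_disjoint hdis] at this ⊢
    omega
  rcases Finset.mem_union.1 (hall ▸ Finset.mem_univ u) with h | h
  · obtain ⟨g, -, e⟩ := Finset.mem_image.1 h
    have h2 : u * u = 1 := by
      rw [← e, show g * a * g⁻¹ * (g * a * g⁻¹) = g * (a * a) * g⁻¹ by group, ha]; group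
    have : u = 1 := by rwa [pow_succ, pow_two, h2, one_mul] at hu
    rw [this]; simp [ha]
  · obtain ⟨s, hs, rfl⟩ := Finset.mem_image.1 h
    obtain ⟨g, -, rfl⟩ := Finset.mem_image.1 hs
    simp only [_root_.mul_inv_rev, inv_inv, hai, mul_assoc, ha, mul_one]

variable {G : Type*} [Group G] [Finite G] {D : Set G}

namespace Bas

variable {F : Type} [Field F] [Fintype F] {hF : Fintype.card F = 4} {a : G} {C : Co D hF a}
  {p : Fin 6 → G} (B : Bas C p)
include B

/-- Two coordinate vectors of one member are proportional. -/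
theorem pt_prop {y : G} {x x' : Fin 6 → F} (h : B.Pt y x) (h' : B.Pt y x') (i j : Fin 6) :
    x i * x' j = x j * x' i := by
  obtain ⟨-, k, hk, e⟩ := h
  obtain ⟨-, l, hl, e'⟩ := h'
  have h0 : k • x = l • x' := B.comb_inj (by rw [comb_smul, comb_smul, ← e, ← e'])
  have hi := congrFun h0 i
  have hj := congrFun h0 j
  simp only [Pi.smul_apply, smul_eq_mul] at hi hj
  exact mul_left_cancel₀ (mul_ne_zero hk hl) (by linear_combination l * x' j * hi - l * x' i * hj)

theorem pt_ne {y z : G} {x x' : Fin 6 → F} (h : B.Pt y x) (h' : B.Pt z x') (i j : Fin 6)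
    (hne : x i * x' j ≠ x j * x' i) : y ≠ z := fun e => hne (B.pt_prop h (e ▸ h') i j)

/-- A member commuting with three members on a line commutes with `a`. -/
theorem collinear (P : M22Prim D) (ha : a ∈ D) {y₁ y₂ y₃ : G} {x₁ x₂ x₃ : Fin 6 → F} (h₁ : B.Pt y₁ x₁)
    (h₂ : B.Pt y₂ x₂) (h₃ : B.Pt y₃ x₃) (h12 : form x₁ x₂ = 0) (n12 : y₁ ≠ y₂) (n13 : y₁ ≠ y₃)
    (n23 : y₂ ≠ y₃) {α β : F} (hx : x₃ = α • x₁ + β • x₂) {u : G} (hu : u ∈ D) (u1 : Commute u y₁)
    (u2 : Commute u y₂) (u3 : Commute u y₃) : Commute u a := by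
  have c12 := (B.pt_commute h₁ h₂).2 h12
  have key : ∀ z ∈ link D a, Commute z y₁ → Commute z y₂ → Commute z y₃ := fun z hz z1 z2 => by
    obtain ⟨x, -, -, hzx⟩ := B.pt_coord hz
    refine (B.pt_commute hzx h₃).2 ?_
    rw [hx, ← B.h_comb, comb_add, comb_smul, comb_smul, h_add_right hF, h_smul_right, h_smul_right,
      B.h_comb, B.h_comb, (B.pt_commute hzx h₁).1 z1, (B.pt_commute hzx h₂).1 z2]
    simp
  have f : Fac D [a, y₁, y₂] := by
    refine ⟨by simp [h₁.1.2.1.symm, h₂.1.2.1.symm, n12], by simp [ha, h₁.1.1, h₂.1.1], ?_⟩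
    simp [h₁.1.2.2, h₁.1.2.2.symm, h₂.1.2.2, h₂.1.2.2.symm, c12, c12.symm]
  have hm : y₃ ∈ hset D a y₁ y₂ :=
    ⟨h₃.1.1, h₃.1.2.2.symm, (key y₁ h₁.1 (Commute.refl _) c12).symm,
      (key y₂ h₂.1 c12.symm (Commute.refl _)).symm, fun z hz za z1 z2 => by
      by_cases e : z = a
      · rw [e]; exact h₃.1.2.2
      · exact key z ⟨hz, e, za.symm⟩ z1 z2⟩
  obtain ⟨-, m1, m2⟩ := M22Prim.mem_hset_self f
  have hR : IsHex D (hset D a y₁ y₂) := ⟨a, y₁, y₂, f, rfl⟩
  obtain ⟨-, e⟩ := P.hex_eq hR m1 m2 hm n12 n13 n23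
  have hA : a ∈ hset D y₁ y₂ y₃ := e ▸ (M22Prim.mem_hset_self f).1
  exact hA.2.2.2.2 u hu u1 u2 u3

variable (P : M22Prim D) (ha : a ∈ D) {b : G} (hb : b ∈ D) (hab : ¬ Commute a b)
  (hpb : ∀ k, Commute (p k) b)
include P ha hb hab hpb

/-- The sum of the second, fourth and sixth point does not commute with `b`. -/
theorem not_commute_odd {y : G} (hy : B.Pt y ![0, 1, 0, 1, 0, 1]) : ¬ Commute y b := by
  classical
  intro hyb
  haveI := char2 hF
  have h2 := two_eq_zero hF
  have hh : B.Pt (p 1) ![0, 1, 0, 0, 0, 0] := by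
    convert B.pt_self 1 using 1
    funext k; fin_cases k <;> simp
  have he : B.Pt (p 3) ![0, 0, 0, 1, 0, 0] := by
    convert B.pt_self 3 using 1
    funext k; fin_cases k <;> simp
  have hg : B.Pt (p 5) ![0, 0, 0, 0, 0, 1] := by
    convert B.pt_self 5 using 1
    funext k; fin_cases k <;> simp
  have n13 : p 1 ≠ p 3 := B.pt_ne hh he 1 3 (by simp)
  have n15 : p 1 ≠ p 5 := B.pt_ne hh hg 1 5 (by simp)
  have n35 : p 3 ≠ p 5 := B.pt_ne he hg 3 5 (by simp)
  have c13 : Commute (p 1) (p 3) := (B.pt_commute hh he).2 (by simp [form, CharTwo.add_self_eq_zero])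
  have c15 : Commute (p 1) (p 5) := (B.pt_commute hh hg).2 (by simp [form, CharTwo.add_self_eq_zero])
  have c35 : Commute (p 3) (p 5) := (B.pt_commute he hg).2 (by simp [form, CharTwo.add_self_eq_zero])
  have f : Fac D [p 1, p 3, p 5] := by
    refine ⟨by simp [n13, n15, n35], by simp [(B.mem 1).1, (B.mem 3).1, (B.mem 5).1], ?_⟩
    simp [c13, c13.symm, c15, c15.symm, c35, c35.symm]
  set R := hset D (p 1) (p 3) (p 5)
  obtain ⟨o, ho⟩ := exists_omega hF
  have ho0 : o ≠ 0 := by rintro rfl; simp at ho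
  have ho1 : o + 1 ≠ 0 := fun e => by
    have : (1 : F) = 0 := by linear_combination ho - o * e
    exact one_ne_zero this
  obtain ⟨q, hq⟩ := B.pt_exists (x := ![0, 1, 0, o, 0, o + 1]) (by simp [form, CharTwo.add_self_eq_zero]) (fun e => by
    simpa using congrFun e 1)
  obtain ⟨r, hr⟩ := B.pt_exists (x := ![0, 1, 0, o + 1, 0, o]) (by simp [form, CharTwo.add_self_eq_zero]) (fun e => by
    simpa using congrFun e 1)
  have hRb : ∀ {u}, u ∈ R → Commute u b := fun {u} hu =>
    (hu.2.2.2.2 b hb (hpb 1).symm (hpb 3).symm (hpb 5).symm).symm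
  have col : ∀ {z₁ z₂ z₃ : G} {x₁ x₂ x₃ : Fin 6 → F}, B.Pt z₁ x₁ → B.Pt z₂ x₂ → B.Pt z₃ x₃ →
      form x₁ x₂ = 0 → z₁ ≠ z₂ → z₁ ≠ z₃ → z₂ ≠ z₃ → ∀ α β : F, x₃ = α • x₁ + β • x₂ →
      Commute z₁ b → Commute z₂ b → Commute z₃ b → False :=
    fun k1 k2 k3 h m1 m2 m3 α β hx b1 b2 b3 =>
      hab (B.collinear P ha k1 k2 k3 h m1 m2 m3 hx hb b1.symm b2.symm b3.symm).symm
  have hsub : R ⊆ ({p 1, p 3, p 5, y, q, r} : Set G) := by
    intro u hu
    by_contra hn
    simp only [Set.mem_insert_iff, Set.mem_singleton_iff, not_or] at hn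
    obtain ⟨u1, u3, u5, uy, uq, ur⟩ := hn
    have ua : Commute a u := hu.2.2.2.2 a ha (B.mem 1).2.2 (B.mem 3).2.2 (B.mem 5).2.2
    have ul : u ∈ link D a := ⟨hu.1, fun e => hab (e ▸ hRb hu), ua⟩
    obtain ⟨x, hx0, -, hux⟩ := B.pt_coord ul
    have e1 := (B.pt_commute hux hh).1 hu.2.1
    have e3 := (B.pt_commute hux he).1 hu.2.2.1
    have e5 := (B.pt_commute hux hg).1 hu.2.2.2.1
    simp [form, CharTwo.add_self_eq_zero] at e1 e3 e5
    have z4 : x 4 = 0 := e5
    have z2 : x 2 = 0 := by linear_combination e3 - z4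
    have z0 : x 0 = 0 := by linear_combination e1 - z2
    have hx' : x = ![0, x 1, 0, x 3, 0, x 5] := by
      funext k; fin_cases k <;> simp [z0, z2, z4]
    have k1 : x 1 ≠ 0 := fun z => by
      refine col he hg hux (by simp [form, CharTwo.add_self_eq_zero]) n35 (Ne.symm u3) (Ne.symm u5) (x 3) (x 5) ?_
        (hpb 3) (hpb 5) (hRb hu)
      rw [hx']; funext k; fin_cases k <;> simp [z]
    have k3 : x 3 ≠ 0 := fun z => by
      refine col hh hg hux (by simp [form, CharTwo.add_self_eq_zero]) n15 (Ne.symm u1) (Ne.symm u5) (x 1) (x 5) ?_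
        (hpb 1) (hpb 5) (hRb hu)
      rw [hx']; funext k; fin_cases k <;> simp [z]
    have k5 : x 5 ≠ 0 := fun z => by
      refine col hh he hux (by simp [form, CharTwo.add_self_eq_zero]) n13 (Ne.symm u1) (Ne.symm u3) (x 1) (x 3) ?_
        (hpb 1) (hpb 3) (hRb hu)
      rw [hx']; funext k; fin_cases k <;> simp [z]
    have ny1 : y ≠ p 1 := B.pt_ne hy hh 3 1 (by simp)
    have ny3 : y ≠ p 3 := B.pt_ne hy he 1 3 (by simp)
    have ny5 : y ≠ p 5 := B.pt_ne hy hg 1 5 (by simp)
    have d35 : x 3 ≠ x 5 := fun e => by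
      refine col hy hh hux (by simp [form, CharTwo.add_self_eq_zero]) ny1 (Ne.symm uy) (Ne.symm u1) (x 3) (x 1 + x 3) ?_
        hyb (hpb 1) (hRb hu)
      rw [hx']; funext k; fin_cases k <;> simp [e]
      linear_combination (-x 5) * h2
    have d15 : x 1 ≠ x 5 := fun e => by
      refine col hy he hux (by simp [form, CharTwo.add_self_eq_zero]) ny3 (Ne.symm uy) (Ne.symm u3) (x 1) (x 1 + x 3) ?_
        hyb (hpb 3) (hRb hu)
      rw [hx']; funext k; fin_cases k <;> simp [e]
      linear_combination (-x 5) * h2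
    have d13 : x 1 ≠ x 3 := fun e => by
      refine col hy hg hux (by simp [form, CharTwo.add_self_eq_zero]) ny5 (Ne.symm uy) (Ne.symm u5) (x 1) (x 1 + x 5) ?_
        hyb (hpb 5) (hRb hu)
      rw [hx']; funext k; fin_cases k <;> simp [e]
      linear_combination (-x 3) * h2
    set β := (x 1)⁻¹ * x 3 with hβ
    set γ := (x 1)⁻¹ * x 5 with hγ
    have hs : (x 1)⁻¹ • x = ![0, 1, 0, β, 0, γ] := by
      funext k; fin_cases k <;> simp [hβ, hγ, z0, z2, z4, k1]
    have b0 : β ≠ 0 := mul_ne_zero (inv_ne_zero k1) k3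
    have c0 : γ ≠ 0 := mul_ne_zero (inv_ne_zero k1) k5
    have b1 : β ≠ 1 := fun e => d13 (inv_mul_eq_one₀ k1 |>.1 e)
    have c1 : γ ≠ 1 := fun e => d15 (inv_mul_eq_one₀ k1 |>.1 e)
    have bc : β ≠ γ := fun e => d35 (mul_left_cancel₀ (inv_ne_zero k1) e)
    have hux' := B.pt_smul hux (inv_ne_zero k1)
    rw [hs] at hux'
    have roots : ∀ t : F, t ≠ 0 → t ≠ 1 → t = o ∨ t = o + 1 := fun t t0 t1 => by
      have := quad hF t0 t1
      rcases mul_eq_zero.1 (show (t - o) * (t - (o + 1)) = 0 by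
        linear_combination this - ho + (-t * o - t + o * o + o) * h2) with h | h
      · exact Or.inl (sub_eq_zero.1 h)
      · exact Or.inr (sub_eq_zero.1 h)
    rcases roots β b0 b1 with e | e <;> rcases roots γ c0 c1 with e' | e'
    · exact bc (e.trans e'.symm)
    · exact uq (B.pt_unique hux' (by rw [e, e']; exact hq))
    · exact ur (B.pt_unique hux' (by rw [e, e']; exact hr))
    · exact bc (e.trans e'.symm)
  have h6 : R.ncard = 6 := P.hset_ncard f
  have hin : ∀ {t : G}, t = q ∨ t = r → t ∈ R := fun {t} ht => by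
    by_contra hn
    have hs : R ⊆ ({p 1, p 3, p 5, y, q, r} : Set G) \ {t} := fun u hu => ⟨hsub hu, fun e => hn (e ▸ hu)⟩
    have k := Set.ncard_le_ncard hs (Set.toFinite _)
    have k1 := Set.ncard_insert_le (p 1) ({p 3, p 5, y, q, r} : Set G)
    have k2 := Set.ncard_insert_le (p 3) ({p 5, y, q, r} : Set G)
    have k3 := Set.ncard_insert_le (p 5) ({y, q, r} : Set G)
    have k4 := Set.ncard_insert_le y ({q, r} : Set G)
    have k5 := Set.ncard_insert_le q ({r} : Set G)
    rw [Set.ncard_singleton] at k5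
    have hmem : t ∈ ({p 1, p 3, p 5, y, q, r} : Set G) := by
      rcases ht with rfl | rfl <;> simp
    have k6 := Set.ncard_sdiff_singleton_add_one hmem (Set.toFinite _)
    omega
  have hD := P.data
  have hp0 : B.Pt (p 0) ![1, 0, 0, 0, 0, 0] := by
    convert B.pt_self 0 using 1
    funext k; fin_cases k <;> simp
  have hp2 : B.Pt (p 2) ![0, 0, 1, 0, 0, 0] := by
    convert B.pt_self 2 using 1
    funext k; fin_cases k <;> simp
  have hp4 : B.Pt (p 4) ![0, 0, 0, 0, 1, 0] := by
    convert B.pt_self 4 using 1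
    funext k; fin_cases k <;> simp
  have moved : ∀ {t : G} {w : F}, w ^ 2 + w + 1 = 0 → B.Pt t ![0, 1, 0, w, 0, w + 1] → Commute t b →
      ∃ s, B.Pt s ![1, 0, w + 1, 0, 1, 0] ∧ Commute s b := by
    intro t w hw ht htb
    have t1 : B.Pt (t * p 0 * t) ![1, 1, 0, w, 0, w + 1] := by
      convert B.pt_conj hD hp0 ht using 1
      funext k; fin_cases k <;> simp [form, CharTwo.add_self_eq_zero] <;> (try ring_nf) <;> simp [h2]
    have t2 : B.Pt (p 2 * (t * p 0 * t) * p 2) ![1, 1, w + 1, w, 0, w + 1] := by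
      convert B.pt_conj hD t1 hp2 using 1
      funext k; fin_cases k <;> simp [form, CharTwo.add_self_eq_zero] <;> (try ring_nf) <;> simp [h2]
    have t3 : B.Pt (p 4 * (p 2 * (t * p 0 * t) * p 2) * p 4) ![1, 1, w + 1, w, 1, w + 1] := by
      convert B.pt_conj hD t2 hp4 using 1
      funext k; fin_cases k <;> simp [form, CharTwo.add_self_eq_zero] <;> (try ring_nf) <;> simp [h2]
    have hcoef : form (![1, 1, w + 1, w, 1, w + 1] : Fin 6 → F) ![0, 1, 0, w, 0, w + 1] = 1 := by
      simp [form, CharTwo.add_self_eq_zero]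
      linear_combination (w + 2) * hw
    have t4 : B.Pt (t * (p 4 * (p 2 * (t * p 0 * t) * p 2) * p 4) * t) ![1, 0, w + 1, 0, 1, 0] := by
      convert B.pt_conj hD t3 ht using 1
      rw [hcoef, one_smul]
      funext k; fin_cases k <;> simp [CharTwo.add_self_eq_zero] <;> (try ring_nf) <;> simp [h2]
    exact ⟨_, t4, (htb.mul_left (((hpb 4).mul_left (((hpb 2).mul_left ((htb.mul_left (hpb 0)).mul_left htb)).mul_left
      (hpb 2))).mul_left (hpb 4))).mul_left htb⟩
  obtain ⟨u, hu, hub⟩ := moved ho hq (hRb (hin (Or.inl rfl)))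
  obtain ⟨v, hv, hvb⟩ := moved (w := o + 1) (by linear_combination ho + (o + 1) * h2)
    (by rw [show o + 1 + 1 = o by linear_combination h2]; exact hr) (hRb (hin (Or.inr rfl)))
  rw [show o + 1 + 1 = o by linear_combination h2] at hv
  refine col hu hv hp2 (by simp [form, CharTwo.add_self_eq_zero]) ?_ ?_ ?_ 1 1 ?_ hub hvb (hpb 2)
  · intro e
    have := B.pt_prop hu (e ▸ hv) 0 2
    simp at this
  · exact B.pt_ne hu hp2 2 0 (by simp)
  · exact B.pt_ne hv hp2 2 0 (by simp)
  · funext k; fin_cases k <;> simp [CharTwo.add_self_eq_zero] <;> (try ring_nf) <;> simp [h2]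

/-- The same for the chain read backwards. -/
theorem not_commute_even {y : G} (hy : B.Pt y ![1, 0, 1, 0, 1, 0]) : ¬ Commute y b := by
  let B' : Bas C (p ∘ Fin.rev) :=
    { v := B.v ∘ Fin.rev
      mem := fun k => B.mem _
      scal := fun k => B.scal _
      gram := fun i j => by
        rw [Function.comp_apply, Function.comp_apply, B.gram]
        congr 1
        simp only [Fin.val_rev, eq_iff_iff]
        omega }
  refine B'.not_commute_odd P ha hb hab (fun k => hpb _) ?_
  obtain ⟨hl, k, hk, e⟩ := hy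
  refine ⟨hl, k, hk, ?_⟩
  rw [e]
  congr 1
  simp [comb, B', show Fin.rev (0 : Fin 6) = 5 from rfl, show Fin.rev (1 : Fin 6) = 4 from rfl,
    show Fin.rev (2 : Fin 6) = 3 from rfl, show Fin.rev (3 : Fin 6) = 2 from rfl,
    show Fin.rev (4 : Fin 6) = 1 from rfl, show Fin.rev (5 : Fin 6) = 0 from rfl]
  abel

end Bas

set_option maxHeartbeats 1600000 in
open Y332Words in
/-- Transpositions satisfying the relations of the presented Fischer group. -/
theorem exists_y332 (P : M22Prim D) {a b : G} (ha : a ∈ D) (hb : b ∈ D) (hab : ¬ Commute a b)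
    {p : Fin 6 → G} (hp : ∀ k, p k ∈ link D a) (hpb : ∀ k, Commute (p k) b)
    (pat : ∀ i j : Fin 6, Commute (p i) (p j) ↔ ¬((i : ℕ) + 1 = j ∨ (j : ℕ) + 1 = i)) :
    ∃ g : ℕ → G, Rels g adj ∧ g 0 = a ∧ value g spider ^ 10 = 1 ∧ value g sevenA ^ 9 = 1 ∧
      value g sevenB ^ 9 = 1 := by
  classical
  obtain ⟨F, _, _, hF, ⟨C⟩⟩ := Co.exists_co P ha
  obtain ⟨B⟩ := Bas.exists_bas (C := C) hp pat
  haveI := char2 hF
  have h2 := two_eq_zero hF
  have hD := P.data
  have e0 : B.Pt (p 0) ![1, 0, 0, 0, 0, 0] := by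
    convert B.pt_self 0 using 1
    funext k; fin_cases k <;> simp
  have e1 : B.Pt (p 1) ![0, 1, 0, 0, 0, 0] := by
    convert B.pt_self 1 using 1
    funext k; fin_cases k <;> simp
  have e2 : B.Pt (p 2) ![0, 0, 1, 0, 0, 0] := by
    convert B.pt_self 2 using 1
    funext k; fin_cases k <;> simp
  have e3 : B.Pt (p 3) ![0, 0, 0, 1, 0, 0] := by
    convert B.pt_self 3 using 1
    funext k; fin_cases k <;> simp
  have e4 : B.Pt (p 4) ![0, 0, 0, 0, 1, 0] := by
    convert B.pt_self 4 using 1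
    funext k; fin_cases k <;> simp
  have e5 : B.Pt (p 5) ![0, 0, 0, 0, 0, 1] := by
    convert B.pt_self 5 using 1
    funext k; fin_cases k <;> simp
  obtain ⟨c, hc⟩ := B.pt_exists (x := ![0, 0, 0, 1, 0, 1]) (by simp [form, CharTwo.add_self_eq_zero]) (fun e => by
    simpa using congrFun e 3)
  have n35 : p 3 ≠ p 5 := B.pt_ne e3 e5 3 5 (by simp)
  have n3c : p 3 ≠ c := B.pt_ne e3 hc 3 5 (by simp)
  have n5c : p 5 ≠ c := B.pt_ne e5 hc 5 3 (by simp)
  -- no transposition commutes with three members on a line, unless it commutes with `a`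
  have line : ∀ {u : G}, u ∈ D → Commute u (p 3) → Commute u (p 5) → Commute u c → Commute u a :=
    fun {u} hu u3 u5 uc => B.collinear P ha e3 e5 hc (by simp [form, CharTwo.add_self_eq_zero]) n35 n3c n5c
      (α := 1) (β := 1) (by funext k; fin_cases k <;> simp) hu u3 u5 uc
  have hbc : ¬ Commute b c := fun h => hab (line hb (hpb 3).symm (hpb 5).symm h).symm
  have cc : ∀ k : Fin 6, Commute c (p k) ↔ k ≠ 2 := by
    intro k
    fin_cases k
    · simpa [form, CharTwo.add_self_eq_zero] using B.pt_commute hc e0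
    · simpa [form, CharTwo.add_self_eq_zero] using B.pt_commute hc e1
    · simpa [form, CharTwo.add_self_eq_zero] using B.pt_commute hc e2
    · simpa [form, CharTwo.add_self_eq_zero] using B.pt_commute hc e3
    · simpa [form, CharTwo.add_self_eq_zero] using B.pt_commute hc e4
    · simpa [form, CharTwo.add_self_eq_zero] using B.pt_commute hc e5
  let gl : Fin 9 → G := ![a, b, c, p 2, p 3, p 4, p 5, p 1, p 0]
  let g : ℕ → G := fun n => if h : n < 9 then gl ⟨n, h⟩ else 1
  have gD : ∀ x : Fin 9, gl x ∈ D := by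
    intro x; fin_cases x
    exacts [ha, hb, hc.1.1, (hp 2).1, (hp 3).1, (hp 4).1, (hp 5).1, (hp 1).1, (hp 0).1]
  have gcomm : ∀ x y : Fin 9, adj x y = false → adj y x = false → Commute (gl x) (gl y) := by
    intro x y h h'
    fin_cases x <;> fin_cases y <;>
      first
      | (exfalso; revert h h'; decide)
      | exact Commute.refl _
      | exact (hp _).2.2
      | exact (hp _).2.2.symm
      | exact hc.1.2.2
      | exact hc.1.2.2.symm
      | exact hpb _
      | exact (hpb _).symm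
      | exact (cc _).2 (by decide)
      | exact ((cc _).2 (by decide)).symm
      | exact (pat _ _).2 (by decide)
  have gbraid : ∀ x y : Fin 9, adj x y = true → ¬ Commute (gl x) (gl y) := by
    intro x y h
    fin_cases x <;> fin_cases y <;>
      first
      | (exfalso; revert h; decide)
      | exact hab
      | exact fun h => hab h.symm
      | exact hbc
      | exact fun h => hbc h.symm
      | exact fun h => (cc 2).1 h rfl
      | exact fun h => (cc 2).1 h.symm rfl
      | exact fun h => (pat _ _).1 h (by decide)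
  have hlt : ∀ {x y : ℕ}, adj x y = true → x < 9 ∧ y < 9 := by
    intro x y h
    unfold adj at h
    split at h <;> first | omega | exact absurd h (by simp)
  have hg : ∀ x, (hx : x < 9) → g x = gl ⟨x, hx⟩ := fun x hx => dif_pos hx
  have R : Rels g adj := by
    refine ⟨fun x => ?_, fun x y h h' => ?_, fun x y h => ?_⟩
    · by_cases hx : x < 9
      · rw [hg x hx]; exact hD.mul_self (gD _)
      · simp [g, hx]
    · by_cases hx : x < 9
      · by_cases hy : y < 9
        · rw [hg x hx, hg y hy]; exact gcomm _ _ h h'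
        · simp [g, hy]
      · simp [g, hx]
    · obtain ⟨hx, hy⟩ := hlt h
      rw [hg x hx, hg y hy]
      set X := gl ⟨x, hx⟩
      set Y := gl ⟨y, hy⟩
      have hn := gbraid ⟨x, hx⟩ ⟨y, hy⟩ h
      have hX := hD.inv_eq (gD ⟨x, hx⟩)
      have hY := hD.inv_eq (gD ⟨y, hy⟩)
      rcases hD.set.2 X (gD _) Y (gD _) with e | e
      · refine absurd ?_ hn
        rw [pow_two, ← eq_inv_iff_mul_eq_one, _root_.mul_inv_rev, hX, hY] at e
        exact e
      · have e' : X * Y * X * (Y * X * Y) = 1 := by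
          rw [← e]; simp [pow_succ, mul_assoc]
        rw [eq_inv_of_mul_eq_one_left e', _root_.mul_inv_rev, _root_.mul_inv_rev, hX, hY, mul_assoc]
  -- nothing in `D` commutes with the seven
  have emptyA : ∀ y ∈ D, Commute y a → Commute y b → Commute y c → Commute y (p 2) → Commute y (p 3) →
      Commute y (p 4) → Commute y (p 1) → False := by
    intro y hy ya yb yc y2 y3 y4 y1
    by_cases e : y = a
    · exact hab (e ▸ yb)
    obtain ⟨x, hx0, -, hyx⟩ := B.pt_coord (show y ∈ link D a from ⟨hy, e, ya.symm⟩)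
    have f1 := (B.pt_commute hyx e1).1 y1
    have f2 := (B.pt_commute hyx e2).1 y2
    have f3 := (B.pt_commute hyx e3).1 y3
    have f4 := (B.pt_commute hyx e4).1 y4
    have fc := (B.pt_commute hyx hc).1 yc
    simp [form, CharTwo.add_self_eq_zero] at f1 f2 f3 f4 fc
    have z2 : x 2 = 0 := by linear_combination fc
    have z0 : x 0 = 0 := by linear_combination f1 - z2
    have z4 : x 4 = 0 := by linear_combination f3 - z2
    have s3 : x 3 = x 1 := by linear_combination f2 - x 1 * h2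
    have s5 : x 5 = x 1 := by linear_combination f4 - f2 + (0 : F) * h2
    have h1 : x 1 ≠ 0 := fun z => hx0 (by
      funext k; fin_cases k <;> simp [z0, z2, z4, s3, s5, z])
    refine B.not_commute_odd P ha hb hab hpb ?_ yb
    convert B.pt_smul hyx (inv_ne_zero h1) using 1
    funext k; fin_cases k <;> simp [z0, z2, z4, s3, s5, h1]
  have emptyB : ∀ y ∈ D, Commute y b → Commute y c → Commute y (p 2) → Commute y (p 3) →
      Commute y (p 4) → Commute y (p 5) → Commute y (p 1) → False := fun y hy yb yc y2 y3 y4 y5 y1 =>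
    emptyA y hy (line hy y3 y5 yc) yb yc y2 y3 y4 y1
  have killed : ∀ {w : G} {L : List ℕ}, w * w = 1 → (∀ x ∈ L, Commute (g x) w) → (∀ x ∈ L, x < 9) →
      (∀ y ∈ D, (∀ x ∈ L, Commute y (g x)) → False) → w = 1 := by
    intro w L hw hc' hL hno
    obtain ⟨m, hm, hlen, hmw⟩ := P.factor_three hw
    rcases m with _ | ⟨y, m⟩
    · simpa using hmw.symm
    refine (hno y (hm.mem y (List.mem_cons_self ..)) fun x hx => ?_).elim
    exact (commute_prod hD hm hlen (hg x (hL x hx) ▸ gD _) (hmw ▸ hc' x hx) y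
      (List.mem_cons_self ..)).symm
  have hA : value g sevenA ^ 9 = 1 := by
    obtain ⟨h1, h2'⟩ := sevenA_facts R
    refine killed h1 h2' (by decide) fun y hy h => ?_
    exact emptyA y hy (h 0 (by simp)) (h 1 (by simp)) (h 2 (by simp)) (h 3 (by simp)) (h 4 (by simp))
      (h 5 (by simp)) (h 7 (by simp))
  have hB : value g sevenB ^ 9 = 1 := by
    obtain ⟨h1, h2'⟩ := sevenB_facts R
    refine killed h1 h2' (by decide) fun y hy h => ?_
    exact emptyB y hy (h 1 (by simp)) (h 2 (by simp)) (h 3 (by simp)) (h 4 (by simp)) (h 5 (by simp))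
      (h 6 (by simp)) (h 7 (by simp))
  -- the reflection of the highest root
  have pc : B.Pt (g 2) ![0, 0, 0, 1, 0, 1] := hc
  have pd : B.Pt (g 3) ![0, 0, 1, 0, 0, 0] := e2
  have pe : B.Pt (g 4) ![0, 0, 0, 1, 0, 0] := e3
  have pf : B.Pt (g 5) ![0, 0, 0, 0, 1, 0] := e4
  have ph : B.Pt (g 7) ![0, 1, 0, 0, 0, 0] := e1
  have pi' : B.Pt (g 8) ![1, 0, 0, 0, 0, 0] := e0
  have grow : ∀ {w : List ℕ} {l : ℕ} {x x' y : Fin 6 → F}, B.Pt (value g w) x → B.Pt (g l) x' →
      y = x + form x x' • x' → B.Pt (value g ([l] ++ w ++ [l])) y := by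
    intro w l x x' y hw hl e
    subst e
    rw [value_append, value_append, show value g [l] = g l by simp [value]]
    exact B.pt_conj hD hw hl
  have s0 : B.Pt (value g [8]) ![1, 0, 0, 0, 0, 0] := by simpa [value] using pi'
  have hth : B.Pt (value g thetaWord) ![1, 0, 1, 0, 1, 0] := by
    have s1 := grow (y := ![1, 1, 0, 0, 0, 0]) s0 ph (by funext k; fin_cases k <;> simp [form, CharTwo.add_self_eq_zero] <;> (try ring_nf) <;> simp [h2])
    have s2 := grow (y := ![1, 1, 1, 0, 0, 0]) s1 pd (by funext k; fin_cases k <;> simp [form, CharTwo.add_self_eq_zero] <;> (try ring_nf) <;> simp [h2])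
    have s3 := grow (y := ![1, 1, 1, 1, 0, 0]) s2 pe (by funext k; fin_cases k <;> simp [form, CharTwo.add_self_eq_zero] <;> (try ring_nf) <;> simp [h2])
    have s4 := grow (y := ![1, 1, 1, 0, 0, 1]) s3 pc (by funext k; fin_cases k <;> simp [form, CharTwo.add_self_eq_zero] <;> (try ring_nf) <;> simp [h2])
    have s5 := grow (y := ![1, 1, 0, 0, 0, 1]) s4 pd (by funext k; fin_cases k <;> simp [form, CharTwo.add_self_eq_zero] <;> (try ring_nf) <;> simp [h2])
    have s6 := grow (y := ![1, 0, 0, 0, 0, 1]) s5 ph (by funext k; fin_cases k <;> simp [form, CharTwo.add_self_eq_zero] <;> (try ring_nf) <;> simp [h2])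
    have s7 := grow (y := ![1, 0, 0, 0, 1, 1]) s6 pf (by funext k; fin_cases k <;> simp [form, CharTwo.add_self_eq_zero] <;> (try ring_nf) <;> simp [h2])
    have s8 := grow (y := ![1, 0, 0, 1, 1, 1]) s7 pe (by funext k; fin_cases k <;> simp [form, CharTwo.add_self_eq_zero] <;> (try ring_nf) <;> simp [h2])
    have s9 := grow (y := ![1, 0, 1, 1, 1, 1]) s8 pd (by funext k; fin_cases k <;> simp [form, CharTwo.add_self_eq_zero] <;> (try ring_nf) <;> simp [h2])
    exact grow (y := ![1, 0, 1, 0, 1, 0]) s9 pc (by funext k; fin_cases k <;> simp [form, CharTwo.add_self_eq_zero] <;> (try ring_nf) <;> simp [h2])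
  have hv : ¬ Commute (value g thetaWord) b := B.not_commute_even P ha hb hab hpb hth
  have hcube : value g ([1] ++ thetaWord) ^ 3 = 1 := by
    rw [value_append, show value g [1] = b by simp [value, g, gl]]
    rcases hD.set.2 b hb _ hth.1.1 with e | e
    · refine absurd ?_ hv
      rw [pow_two, ← eq_inv_iff_mul_eq_one, _root_.mul_inv_rev, hD.inv_eq hb, hD.inv_eq hth.1.1] at e
      exact e.symm
    · exact e
  obtain ⟨hu, hu3⟩ := spider_facts R hcube
  refine ⟨g, R, rfl, ?_, hA, hB⟩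
  set u := value g spider ^ 10
  have ub : Commute b u := hu 1 (by simp)
  -- the stabiliser of `a` among the elements centralising the six
  set S : Subgroup G := Subgroup.centralizer ({c, p 2, p 3, p 4, p 1, p 0} : Set G)
  have hS : ∀ {n : G}, n ∈ S ↔ Commute n c ∧ Commute n (p 2) ∧ Commute n (p 3) ∧ Commute n (p 4) ∧
      Commute n (p 1) ∧ Commute n (p 0) := fun {n} => by
    simp only [S, Subgroup.mem_centralizer_iff, Set.mem_insert_iff, Set.mem_singleton_iff, forall_eq_or_imp,
      forall_eq, Commute, SemiconjBy]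
    exact ⟨fun ⟨h1, h2, h3, h4, h5, h6⟩ => ⟨h1.symm, h2.symm, h3.symm, h4.symm, h5.symm, h6.symm⟩,
      fun ⟨h1, h2, h3, h4, h5, h6⟩ => ⟨h1.symm, h2.symm, h3.symm, h4.symm, h5.symm, h6.symm⟩⟩
  have haS : a ∈ S := hS.2 ⟨hc.1.2.2, (hp 2).2.2, (hp 3).2.2, (hp 4).2.2, (hp 1).2.2, (hp 0).2.2⟩
  have huS : u ∈ S := hS.2 ⟨(hu 2 (by simp)).symm, (hu 3 (by simp)).symm, (hu 4 (by simp)).symm,
    (hu 5 (by simp)).symm, (hu 7 (by simp)).symm, (hu 8 (by simp)).symm⟩
  have hiso : ∀ n ∈ S, Commute n a → n = 1 ∨ n = a := by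
    intro n hn hna
    set N : ↥(Subgroup.centralizer ({a} : Set G)) := ⟨n, Subgroup.mem_centralizer_singleton_iff.2 hna.eq⟩
    obtain ⟨L, hL⟩ := QuotientGroup.mk_surjective (C.cv.π N)
    have fixed : ∀ {y : G} {x : Fin 6 → F}, B.Pt y x → Commute n y →
        ∃ l : F, l ≠ 0 ∧ act L (comb B.v x) = l • comb B.v x := by
      intro y x hy hny
      obtain ⟨hl, k, hk, ey⟩ := hy
      have hi := C.iso y hl
      have hi' : H (act L (C.φ y)) (act L (C.φ y)) = 0 := by rw [act_iso]; exact hi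
      have h0' : act L (C.φ y) ≠ 0 := fun e => C.ne y hl (act_injective _ (e.trans (act_zero _).symm))
      have e : tt hF (C.φ y) = tt hF (act L (C.φ y)) := by
        have hN : N * Co.up (D := D) hl * N⁻¹ = Co.up (D := D) hl := Subtype.ext (by
          show n * y * n⁻¹ = y
          rw [hny.eq, mul_inv_cancel_right])
        conv_lhs => rw [← C.spec (Co.up hl) hl, ← hN, map_mul, map_mul, map_inv, ← hL,
          C.spec (Co.up hl) hl]
        rw [tt_eq hF hi, tt_eq hF hi']
        show QuotientGroup.mk' _ L * QuotientGroup.mk' _ _ * (QuotientGroup.mk' _ L)⁻¹ = _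
        rw [← map_inv, ← map_mul, ← map_mul]
        exact congrArg _ (act_ext fun z => by rw [act_tSU, conj_tv hF _ (act_tSU hF _ hi)])
      obtain ⟨l, hl'⟩ := tt_inj hF hi (C.ne y hl) hi' h0' e
      refine ⟨l, fun z => h0' (by rw [hl', z, zero_smul]), ?_⟩
      have := hl'
      rw [ey, act_smul, smul_comm] at this
      exact smul_right_injective _ hk this
    have cm := hS.1 hn
    obtain ⟨l0, hl0, a0⟩ := fixed e0 cm.2.2.2.2.2
    obtain ⟨l1, hl1, a1⟩ := fixed e1 cm.2.2.2.2.1
    obtain ⟨l2, hl2, a2⟩ := fixed e2 cm.2.1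
    obtain ⟨l3, hl3, a3⟩ := fixed e3 cm.2.2.1
    obtain ⟨l4, hl4, a4⟩ := fixed e4 cm.2.2.2.1
    obtain ⟨l5, hl5, ac⟩ := fixed hc cm.1
    have same : ∀ {x x' : Fin 6 → F} {l l' : F}, l' ≠ 0 → form x x' = 1 →
        act L (comb B.v x) = l • comb B.v x → act L (comb B.v x') = l' • comb B.v x' → l = l' := by
      intro x x' l l' hl' h ex ex'
      have := act_iso L (comb B.v x) (comb B.v x')
      rw [ex, ex', h_smul_left, h_smul_right, B.h_comb, h, mul_one] at this
      linear_combination l' * this - l * cube hF hl'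
    have q1 : l0 = l1 := same hl1 (by simp [form, CharTwo.add_self_eq_zero]) a0 a1
    have q2 : l1 = l2 := same hl2 (by simp [form, CharTwo.add_self_eq_zero]) a1 a2
    have q3 : l2 = l3 := same hl3 (by simp [form, CharTwo.add_self_eq_zero]) a2 a3
    have q4 : l3 = l4 := same hl4 (by simp [form, CharTwo.add_self_eq_zero]) a3 a4
    have q5 : l2 = l5 := same hl5 (by simp [form, CharTwo.add_self_eq_zero]) a2 ac
    subst q1 q2 q3 q4 q5
    have hall : ∀ z : Fin 6 → F, act L z = l0 • z := by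
      intro z
      obtain ⟨x, rfl⟩ := B.comb_surj z
      have ex : x = x 0 • (![1, 0, 0, 0, 0, 0] : Fin 6 → F) + x 1 • ![0, 1, 0, 0, 0, 0] +
          x 2 • ![0, 0, 1, 0, 0, 0] + (x 3 + x 5) • ![0, 0, 0, 1, 0, 0] + x 4 • ![0, 0, 0, 0, 1, 0] +
          x 5 • ![0, 0, 0, 1, 0, 1] := by
        funext k; fin_cases k <;> simp
        linear_combination (-x 5) * h2
      conv_lhs => rw [ex]
      conv_rhs => rw [ex]
      simp only [comb_add, comb_smul, act_add, act_smul, a0, a1, a2, a3, a4, ac, smul_add,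
        smul_comm l0]
    have hcen : L ∈ Subgroup.center ↥(Cfsg.SU 6 F 2) := Subgroup.mem_center_iff.2 fun h =>
      act_ext fun z => by rw [act_mul, act_mul, hall, hall, act_smul]
    have : C.cv.π N = 1 := by rw [← hL]; exact (QuotientGroup.eq_one_iff _).2 hcen
    exact (C.cv.ker N).1 this
  have hinv : a * u * a = u⁻¹ := congrArg Subtype.val (inverted_of_isolated
    (a := (⟨a, haS⟩ : ↥S)) (u := ⟨u, huS⟩) (Subtype.ext (hD.mul_self ha))
    (fun n hn => (hiso n n.2 (congrArg Subtype.val hn)).imp Subtype.ext Subtype.ext)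
    (Subtype.ext hu3))
  have haba : a * b * a = b * a * b := by
    have := R.braid 0 1 (by decide)
    simpa [g, gl] using this
  have hbi := hD.mul_self hb
  have hai := hD.mul_self ha
  have hub' : Commute b u⁻¹ := ub.inv_right
  have : Commute (a * b * a) u := by
    show a * b * a * u = u * (a * b * a)
    have hau : a * u = u⁻¹ * a := by rw [← hinv, mul_assoc, hai, mul_one]
    have hau' : a * u⁻¹ = u * a := by rw [← hinv]; simp [← mul_assoc, hai]
    rw [mul_assoc (a * b), hau, ← mul_assoc, mul_assoc a b, hub'.eq, ← mul_assoc, hau', mul_assoc u,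
      mul_assoc u]
  have hau : Commute a u := by
    have h1 : Commute (b * (a * b * a) * b) u := (ub.mul_left this).mul_left ub
    rwa [haba, show b * (b * a * b) * b = (b * b) * a * (b * b) by group, hbi, one_mul, mul_one] at h1
  have : u = u⁻¹ := by rw [← hinv, hau.eq, mul_assoc, hai, mul_one]
  rw [eq_inv_iff_mul_eq_one] at this
  rwa [pow_succ, pow_two, this, one_mul] at hu3

end Cfsg.Agent.M22Trans.W
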