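import Cfsg.Agent.M22Trans.W.Kernel
import Cfsg.Agent.TTLink.M22Stab

/-!
Centralisers of members.
Adapted from `TTLink/M22Stab.lean`: the structure here asks for the weaker `M22Hyp` instead of `IsOfTypeM22`.
-/

set_option autoImplicit false
set_option linter.unusedSectionVars false

namespace Cfsg.Agent.M22Trans.W

open Cfsg.Agent.TTLink Cfsg.Agent.ThreeTransp45 Cfsg.Agent.SporB UnitarySix

variable {G : Type*} [Group G] {D : Set G}

namespace M22Prim

variable [Finite G] (P : M22Prim D)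
include P

/-- The centraliser of a transposition is generated by the transpositions commuting with it. -/
theorem mem_commGrp {a : G} (ha : a ∈ D) {g : G} (hg : Commute g a) : g ∈ commGrp D a :=
  mem_commGrp_of P.data P.grp.2.2 ha (fun hs h3 => P.cube_mem ha hs h3) hg

theorem centralizer_eq {a : G} (ha : a ∈ D) : Subgroup.centralizer ({a} : Set G) = commGrp D a :=
  le_antisymm (fun _ hg => P.mem_commGrp ha (Subgroup.mem_centralizer_singleton_iff.1 hg))
    fun _ hg => Subgroup.mem_centralizer_singleton_iff.2 (commute_of_mem_commGrp hg).eq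

/-- Two sets of six in a link cannot both have product one. -/
theorem exists_six {a : G} (ha : a ∈ D) {F : Type} [Field F] [Fintype F] {hF : Fintype.card F = 4}
    {ρ : ↥(Subgroup.closure (link D a)) →* Cfsg.PSU 6 F 2} (himg : ρ '' linkSet D a = allTT hF)
    (hinj : Set.InjOn ρ (linkSet D a))
    (hrefl : ∀ h, ∀ y ∈ linkSet D a, Commute (ρ h) (ρ y) → Commute (h : G) (y : G))
    (hker : ∀ h, ρ h = 1 ↔ (h : G) = 1 ∨ (h : G) = a) :
    ∃ m : List G, m.length = 6 ∧ (∀ z ∈ m, z ∈ link D a) ∧ m.prod = a := by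
  classical
  have hD := P.data
  obtain ⟨A, B, b, c, e, ⟨hA1, hA2, hA3, hA4, hA5⟩, ⟨hB1, hB2, hB3, hB4, hB5⟩, ⟨bA, bB⟩, ⟨cA, cB⟩,
    ⟨eA, eB⟩, ⟨hbc, hbe, hce⟩, q, hqB, hqA⟩ := exists_two_sixes hF
  have hl : ∀ u : Cfsg.PSU 6 F 2, ∃ h : ↥(Subgroup.closure (link D a)),
      u ∈ allTT hF → h ∈ linkSet D a ∧ ρ h = u := fun u => by
    by_cases hu : u ∈ allTT hF
    · rw [← himg] at hu
      obtain ⟨h, hh, rfl⟩ := hu
      exact ⟨h, fun _ => ⟨hh, rfl⟩⟩
    · exact ⟨1, fun h => absurd h hu⟩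
  choose f hf using hl
  have hfi : ∀ u ∈ allTT hF, ∀ v ∈ allTT hF, (f u : G) = f v → u = v := fun u hu v hv e => by
    rw [← (hf u hu).2, ← (hf v hv).2, Subtype.ext e]
  have hfc : ∀ u ∈ allTT hF, ∀ v ∈ allTT hF, Commute u v → Commute (f u : G) (f v) := fun u hu v hv c =>
    hrefl _ _ (hf v hv).1 (by rw [(hf u hu).2, (hf v hv).2]; exact c)
  have fac : ∀ {S : List (Cfsg.PSU 6 F 2)}, S.Nodup → S.length = 6 → S.prod = 1 →
      (∀ y ∈ S, y ∈ allTT hF) → (∀ u ∈ S, ∀ v ∈ S, Commute u v) →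
      Fac D (S.map fun u => (f u : G)) ∧ ((S.map fun u => (f u : G)).prod = 1 ∨
        (S.map fun u => (f u : G)).prod = a) := by
    intro S h1 h2 h3 h4 h5
    refine ⟨⟨h1.map_on fun u hu v hv e => hfi u (h4 u hu) v (h4 v hv) e, ?_, ?_⟩, ?_⟩
    · intro z hz
      obtain ⟨u, hu, rfl⟩ := List.mem_map.1 hz
      exact (hf u (h4 u hu)).1.1
    · intro z hz w hw
      obtain ⟨u, hu, rfl⟩ := List.mem_map.1 hz
      obtain ⟨v, hv, rfl⟩ := List.mem_map.1 hw
      exact hfc u (h4 u hu) v (h4 v hv) (h5 u hu v hv)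
    · have hh := (hker (S.map f).prod).1 (by
        rw [map_list_prod, List.map_map, List.map_congr_left (f := ρ ∘ f) (g := id)
          fun u hu => (hf u (h4 u hu)).2, List.map_id, h3])
      rw [← Subgroup.coe_subtype, map_list_prod, List.map_map] at hh
      exact hh
  have six : ∀ {S : List (Cfsg.PSU 6 F 2)}, S.length = 6 → (∀ y ∈ S, y ∈ allTT hF) →
      (S.map fun u => (f u : G)).prod = a →
      ∃ m : List G, m.length = 6 ∧ (∀ z ∈ m, z ∈ link D a) ∧ m.prod = a := fun {S} h2 h4 hp =>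
    ⟨S.map fun u => (f u : G), by simpa using h2, fun z hz => by
      obtain ⟨u, hu, rfl⟩ := List.mem_map.1 hz
      exact (hf u (h4 u hu)).1, hp⟩
  obtain ⟨facA, pA⟩ := fac hA1 hA2 hA3 hA4 hA5
  obtain ⟨facB, pB⟩ := fac hB1 hB2 hB3 hB4 hB5
  rcases pA with pA | pA
  swap
  · exact six hA2 hA4 pA
  rcases pB with pB | pB
  swap
  · exact six hB2 hB4 pB
  exfalso
  obtain ⟨s, hsn, hsl, -, hsm⟩ := hexad P.grp P.prim P.hyp (hf b (hA4 b bA)).1.1 (hf c (hA4 c cA)).1.1
    (hf e (hA4 e eA)).1.1 (fun h => hbc (hfi b (hA4 b bA) c (hA4 c cA) h))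
    (fun h => hbe (hfi b (hA4 b bA) e (hA4 e eA) h)) (fun h => hce (hfi c (hA4 c cA) e (hA4 e eA) h))
    (hfc b (hA4 b bA) c (hA4 c cA) (hA5 b bA c cA)) (hfc b (hA4 b bA) e (hA4 e eA) (hA5 b bA e eA))
    (hfc c (hA4 c cA) e (hA4 e eA) (hA5 c cA e eA))
  have key : ∀ {m : List G}, Fac D m → m.length = 6 → m.prod = 1 → (f b : G) ∈ m → (f c : G) ∈ m →
      (f e : G) ∈ m → (f b : G) ≠ f c → (f b : G) ≠ f e → (f c : G) ≠ f e → ∀ z, z ∈ m ↔ z ∈ s := by
    intro m hm hlen hprod hb hc he nbc nbe nce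
    refine fun z => ((List.subperm_of_subset hm.nodup fun z hz => ?_).perm_of_length_le
      (by omega)).mem_iff
    refine (hsm z).2 ⟨hm.mem z hz, hm.comm z hz _ hb, hm.comm z hz _ hc, hm.comm z hz _ he,
      fun x hx xb xc xe => ?_⟩
    by_cases zb : z = (f b : G)
    · rw [zb]; exact xb
    by_cases zc : z = (f c : G)
    · rw [zc]; exact xc
    by_cases ze : z = (f e : G)
    · rw [ze]; exact xe
    have hc' := (List.mem_erase_of_ne nbc.symm).2 hc
    have he' := (List.mem_erase_of_ne nce.symm).2 ((List.mem_erase_of_ne nbe.symm).2 he)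
    set R := ((m.erase (f b : G)).erase (f c : G)).erase (f e : G) with hR
    have hperm : m.Perm ((f b : G) :: (f c : G) :: (f e : G) :: R) :=
      (List.perm_cons_erase hb).trans (((List.perm_cons_erase hc').trans
        ((List.perm_cons_erase he').cons _)).cons _)
    have hp := hperm.prod_eq' (List.pairwise_of_forall_mem_list fun u hu v hv => hm.comm u hu v hv)
    rw [hprod, List.prod_cons, List.prod_cons, List.prod_cons, ← mul_assoc, ← mul_assoc] at hp
    refine commute_prod hD (fac_erase (fac_erase (fac_erase hm (f b : G)) (f c : G)) (f e : G)) ?_ hx ?_ z ?_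
    · rw [List.length_erase_of_mem he', List.length_erase_of_mem hc', List.length_erase_of_mem hb, hlen]
    · rw [← hR, eq_inv_of_mul_eq_one_right hp.symm]
      exact ((xb.mul_right xc).mul_right xe).inv_right
    · exact (List.mem_erase_of_ne ze).2 ((List.mem_erase_of_ne zc).2 ((List.mem_erase_of_ne zb).2 hz))
  have mm : ∀ {S : List (Cfsg.PSU 6 F 2)} {u}, u ∈ S → (f u : G) ∈ S.map fun u => (f u : G) :=
    fun hu => List.mem_map_of_mem hu
  have hq1 := (key facB (by simpa using hB2) pB (mm bB) (mm cB) (mm eB)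
    (fun h => hbc (hfi b (hA4 b bA) c (hA4 c cA) h)) (fun h => hbe (hfi b (hA4 b bA) e (hA4 e eA) h))
    (fun h => hce (hfi c (hA4 c cA) e (hA4 e eA) h)) _).1 (mm hqB)
  have hq2 := (key facA (by simpa using hA2) pA (mm bA) (mm cA) (mm eA)
    (fun h => hbc (hfi b (hA4 b bA) c (hA4 c cA) h)) (fun h => hbe (hfi b (hA4 b bA) e (hA4 e eA) h))
    (fun h => hce (hfi c (hA4 c cA) e (hA4 e eA) h)) _).2 hq1
  obtain ⟨u, hu, hue⟩ := List.mem_map.1 hq2
  exact hqA (hfi u (hA4 u hu) q (hB4 q hqB) hue ▸ hu)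

/-- The centraliser of a transposition is a perfect double cover. -/
theorem exists_cover_at {a : G} (ha : a ∈ D) :
    ∃ (F : Type) (_ : Field F) (_ : Fintype F) (hF : Fintype.card F = 4),
      Nonempty (Cover D hF a) := by
  classical
  have hD := P.data
  have H := P.hyp
  obtain ⟨F, i1, i2, hF, ρ, hsurj, himg, hinj, hrefl, hker⟩ := P.exists_link_epi ha
  set C := Subgroup.centralizer ({a} : Set G)
  -- every element acts on the link as an element of the link group
  have hact : ∀ k ∈ commGrp D a, ∃ u : Cfsg.PSU 6 F 2, ∀ y (hy : y ∈ linkSet D a),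
      ∃ y' ∈ linkSet D a, (y' : G) = cj k y ∧ ρ y' = cj u (ρ y) := by
    intro k hk
    induction hk using Subgroup.closure_induction with
    | mem z hz =>
      by_cases e : z = a
      · refine ⟨1, fun y hy => ⟨y, hy, ?_, by rw [cj_one]⟩⟩
        rw [e, (cj_eq_self_iff a (y : G)).2 hy.2.2]
      · refine ⟨ρ ⟨z, Subgroup.subset_closure ⟨hz.1, e, hz.2⟩⟩, fun y hy => ?_⟩
        exact ⟨cj ⟨z, Subgroup.subset_closure ⟨hz.1, e, hz.2⟩⟩ y, conj_linkSet hD _ hy, rfl,
          by simp [cj]⟩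
    | one => exact ⟨1, fun y hy => ⟨y, hy, by rw [cj_one], by rw [cj_one]⟩⟩
    | mul k l _ _ h1 h2 =>
      obtain ⟨u, hu⟩ := h1
      obtain ⟨v, hv⟩ := h2
      refine ⟨u * v, fun y hy => ?_⟩
      obtain ⟨y₁, hy₁, e1, f1⟩ := hv y hy
      obtain ⟨y₂, hy₂, e2, f2⟩ := hu y₁ hy₁
      exact ⟨y₂, hy₂, by rw [e2, e1, cj_mul], by rw [f2, f1, cj_mul]⟩
    | inv k hk h1 =>
      obtain ⟨u, hu⟩ := h1
      refine ⟨u⁻¹, fun y hy => ?_⟩
      have hka : cj k⁻¹ a = a := (cj_eq_self_iff _ _).2 (commute_of_mem_commGrp hk).inv_left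
      have hlk : cj k⁻¹ (y : G) ∈ link D a := by
        have h : cj k⁻¹ (y : G) ∈ cj k⁻¹ '' link D a := ⟨_, hy, rfl⟩
        rwa [link_image hD, hka] at h
      set y₀ : ↥(Subgroup.closure (link D a)) := ⟨cj k⁻¹ y, Subgroup.subset_closure hlk⟩
      obtain ⟨y₁, hy₁, e1, f1⟩ := hu y₀ hlk
      refine ⟨y₀, hlk, rfl, ?_⟩
      have : y₁ = y := Subtype.ext (e1.trans (cj_cj_inv k _))
      rw [← this, f1, cj_inv_cj]
  -- uniqueness
  have huniq : ∀ u v : Cfsg.PSU 6 F 2, (∀ y ∈ linkSet D a, cj u (ρ y) = cj v (ρ y)) → u = v := by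
    intro u v h
    have hc : v⁻¹ * u ∈ Subgroup.center (Cfsg.PSU 6 F 2) := by
      refine Subgroup.mem_center_iff.2 fun g => ?_
      have hle : Subgroup.closure (allTT hF) ≤ Subgroup.centralizer ({v⁻¹ * u} : Set _) := by
        refine (Subgroup.closure_le _).2 fun q hq => Subgroup.mem_centralizer_singleton_iff.2 ?_
        rw [← himg] at hq
        obtain ⟨y, hy, rfl⟩ := hq
        refine ((cj_eq_self_iff (v⁻¹ * u) (ρ y)).1 ?_).eq.symm
        rw [cj_mul, h y hy, cj_inv_cj]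
      have hg : g ∈ Subgroup.closure (allTT hF) := by rw [(allTT_class hF).2.2]; trivial
      exact Subgroup.mem_centralizer_singleton_iff.1 (hle hg)
    rw [psu_center hF, Subgroup.mem_bot, inv_mul_eq_one] at hc
    exact hc.symm
  have hex : ∀ c : ↥C, ∃ u : Cfsg.PSU 6 F 2, ∀ y (hy : y ∈ linkSet D a),
      ∃ y' ∈ linkSet D a, (y' : G) = cj (c : G) y ∧ ρ y' = cj u (ρ y) :=
    fun c => hact c (P.mem_commGrp ha (Subgroup.mem_centralizer_singleton_iff.1 c.2))
  choose π₀ hπ₀ using hex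
  have eval : ∀ (c : ↥C) (y : ↥(Subgroup.closure (link D a))) (hy : y ∈ linkSet D a)
      (y' : ↥(Subgroup.closure (link D a))), (y' : G) = cj (c : G) y → cj (π₀ c) (ρ y) = ρ y' := by
    intro c y hy y' e
    obtain ⟨y₁, -, e1, f1⟩ := hπ₀ c y hy
    rw [← f1, Subtype.ext (e.trans e1.symm)]
  let π : ↥C →* Cfsg.PSU 6 F 2 := MonoidHom.mk' π₀ fun c c' => huniq _ _ fun y hy => by
    obtain ⟨y₁, hy₁, e1, f1⟩ := hπ₀ c' y hy
    obtain ⟨y₂, -, e2, f2⟩ := hπ₀ c y₁ hy₁
    rw [cj_mul, eval (c * c') y hy y₂ (by rw [e2, e1, Subgroup.coe_mul, cj_mul]), f2, f1]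
  have hsub : ∀ h : ↥(Subgroup.closure (link D a)), (h : G) ∈ C := fun h =>
    Subgroup.mem_centralizer_singleton_iff.2 (commute_d h.2).eq.symm
  have hπh : ∀ h : ↥(Subgroup.closure (link D a)), π ⟨h, hsub h⟩ = ρ h := fun h =>
    huniq _ _ fun y hy => by
      show cj (π₀ ⟨h, hsub h⟩) (ρ y) = _
      rw [eval ⟨h, hsub h⟩ y hy (h * y * h⁻¹) rfl]
      simp [cj]
  have hπs : Function.Surjective π := fun u => by
    obtain ⟨h, rfl⟩ := hsurj u
    exact ⟨_, hπh h⟩
  have hπk : ∀ c : ↥C, π c = 1 ↔ (c : G) = 1 ∨ (c : G) = a := by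
    intro c
    constructor
    · intro hc
      refine P.kernel ha (Subgroup.mem_centralizer_singleton_iff.1 c.2) fun y hy => ?_
      obtain ⟨y', hy', e, f⟩ := hπ₀ c ⟨y, Subgroup.subset_closure hy⟩ hy
      rw [show π₀ c = 1 from hc, cj_one] at f
      have e' := congrArg Subtype.val (hinj hy' hy f)
      exact (cj_eq_self_iff (c : G) y).1 (e.symm.trans e')
    · intro hc
      refine huniq _ _ fun y hy => ?_
      show cj (π₀ c) (ρ y) = _
      rw [eval c y hy y ?_, cj_one]
      rcases hc with e | e <;> rw [e]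
      · rw [cj_one]
      · exact ((cj_eq_self_iff a (y : G)).2 hy.2.2).symm
  -- perfectness
  obtain ⟨hs, hnab⟩ := psu_six_two F hF
  haveI := hs
  have hder : commutator (Cfsg.PSU 6 F 2) = ⊤ := by
    have hn : (commutator (Cfsg.PSU 6 F 2)).Normal := by rw [commutator_def]; infer_instance
    refine hn.eq_bot_or_eq_top.resolve_left fun e => hnab ⟨⟨fun u v => ?_⟩⟩
    have := Subgroup.commutator_eq_bot_iff_le_centralizer.1 (commutator_def (G := Cfsg.PSU 6 F 2) ▸ e)
      (Subgroup.mem_top u)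
    exact (Subgroup.mem_centralizer_iff.1 this v (Subgroup.mem_top v)).symm
  have haC : a ∈ C := Subgroup.mem_centralizer_singleton_iff.2 rfl
  set a₀ : ↥C := ⟨a, haC⟩
  have hcases : ∀ c : ↥C, c ∈ commutator ↥C ∨ c * a₀ ∈ commutator ↥C := by
    intro c
    have hm : π c ∈ (commutator ↥C).map π := by
      rw [commutator_def, Subgroup.map_commutator, Subgroup.map_top_of_surjective π hπs,
        ← commutator_def, hder]
      trivial
    obtain ⟨k, hk, hkc⟩ := hm
    rcases (hπk (c⁻¹ * k)).1 (by rw [map_mul, map_inv, hkc, inv_mul_cancel]) with e | e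
    · left
      rw [show c = k from inv_mul_eq_one.1 (Subtype.ext e)]; exact hk
    · right
      rw [show c * a₀ = k by rw [show a₀ = c⁻¹ * k from Subtype.ext e.symm, mul_inv_cancel_left]]
      exact hk
  have haa : a₀ ∈ commutator ↥C := by
    by_contra hna
    let χ : ↥C →* ℤˣ := MonoidHom.mk' (fun c => if c ∈ commutator ↥C then 1 else -1) fun c c' => by
      have hn : (commutator ↥C).Normal := by rw [commutator_def]; infer_instance
      have key : ∀ {u : ↥C}, u ∉ commutator ↥C → u * a₀ ∈ commutator ↥C := fun {u} h =>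
        (hcases u).resolve_left h
      have haa : a₀ * a₀ = 1 := Subtype.ext (hD.mul_self ha)
      by_cases h1 : c ∈ commutator ↥C <;> by_cases h2 : c' ∈ commutator ↥C
      · rw [if_pos h1, if_pos h2, if_pos (Subgroup.mul_mem _ h1 h2), one_mul]
      · rw [if_pos h1, if_neg h2, if_neg, one_mul]
        exact fun h => h2 ((Subgroup.mul_mem_cancel_left _ h1).1 h)
      · rw [if_neg h1, if_pos h2, if_neg, mul_one]
        exact fun h => h1 ((Subgroup.mul_mem_cancel_right _ h2).1 h)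
      · rw [if_neg h1, if_neg h2, if_pos, neg_mul_neg, one_mul]
        have := Subgroup.mul_mem _ (key h1) (key h2)
        have hca : a₀ * c' = c' * a₀ :=
          Subtype.ext (Subgroup.mem_centralizer_singleton_iff.1 c'.2).symm
        rwa [mul_assoc, ← mul_assoc a₀ c' a₀, hca, mul_assoc c', haa, mul_one] at this
    have hχa : χ a₀ = -1 := if_neg hna
    have hconst : ∀ y (hy : y ∈ link D a) z (hz : z ∈ link D a),
        χ ⟨y, Subgroup.mem_centralizer_singleton_iff.2 hy.2.2.eq.symm⟩ =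
          χ ⟨z, Subgroup.mem_centralizer_singleton_iff.2 hz.2.2.eq.symm⟩ := by
      intro y hy z hz
      obtain ⟨g, hg, e⟩ := exists_conj_link H.sol H.cls ha hy hz
      have hgC : g ∈ C := Subgroup.mem_centralizer_singleton_iff.2 (commute_d hg).eq.symm
      have e' : (⟨z, Subgroup.mem_centralizer_singleton_iff.2 hz.2.2.eq.symm⟩ : ↥C) =
          ⟨g, hgC⟩ * ⟨y, Subgroup.mem_centralizer_singleton_iff.2 hy.2.2.eq.symm⟩ * ⟨g, hgC⟩⁻¹ :=
        Subtype.ext e.symm
      rw [e', map_mul, map_mul, mul_comm (χ ⟨g, hgC⟩), map_inv, mul_inv_cancel_right]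
    obtain ⟨b, hb⟩ := H.link_nonempty ha
    set v := χ ⟨b, Subgroup.mem_centralizer_singleton_iff.2 hb.2.2.eq.symm⟩
    have hprod : ∀ m : List G, (∀ z ∈ m, z ∈ link D a) → ∀ hm : m.prod ∈ C,
        χ ⟨m.prod, hm⟩ = v ^ m.length := by
      intro m hm
      induction m with
      | nil => intro h; exact ((congrArg χ (Subtype.ext rfl : (⟨([] : List G).prod, h⟩ : ↥C) = 1)).trans (map_one χ)).trans (pow_zero v).symm
      | cons z m ih =>
        intro h
        have hz := hm z (List.mem_cons_self ..)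
        have hzC : z ∈ C := Subgroup.mem_centralizer_singleton_iff.2 hz.2.2.eq.symm
        have hmC : m.prod ∈ C := by
          rw [List.prod_cons] at h
          exact (Subgroup.mul_mem_cancel_left _ hzC).1 h
        rw [show (⟨(z :: m).prod, h⟩ : ↥C) = ⟨z, hzC⟩ * ⟨m.prod, hmC⟩ from Subtype.ext List.prod_cons,
          map_mul, ih (fun w hw => hm w (List.mem_cons_of_mem _ hw)) hmC, List.length_cons, pow_succ',
          hconst z hz b hb]
    -- five
    obtain ⟨m6, h6l, h6m, h6p⟩ := P.exists_six ha himg hinj hrefl hker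
    have h6 := hprod m6 h6m (by rw [h6p]; exact haC)
    rw [show (⟨m6.prod, _⟩ : ↥C) = a₀ from Subtype.ext h6p, hχa, h6l] at h6
    rcases Int.units_eq_one_or v with hv | hv <;> rw [hv] at h6 <;> exact absurd h6 (by decide)
  have hperf : commutator ↥C = ⊤ := by
    rw [eq_top_iff]
    intro c _
    rcases hcases c with h | h
    · exact h
    · have := Subgroup.mul_mem _ h (Subgroup.inv_mem _ haa)
      rwa [mul_inv_cancel_right] at this
  exact ⟨F, i1, i2, hF, H.cover_of hperf π hπs hπk ha⟩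

/-- All centralisers are covers, over one field, and the group is perfect. -/
theorem covers : ∃ (F : Type) (_ : Field F) (_ : Fintype F) (hF : Fintype.card F = 4),
    (∀ a ∈ D, Nonempty (Cover D hF a)) ∧ commutator G = ⊤ := by
  obtain ⟨d, hd, -⟩ := P.hyp.cls.2.1
  obtain ⟨F, i1, i2, hF, ⟨cv⟩⟩ := P.exists_cover_at hd
  have hcov : ∀ a ∈ D, Nonempty (Cover D hF a) := fun a ha =>
    P.hyp.exists_cover hd cv.perf cv.π cv.surj cv.ker ha
  refine ⟨F, i1, i2, hF, hcov, ?_⟩
  rw [← top_le_iff, ← P.grp.2.2, Subgroup.closure_le]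
  intro a ha
  obtain ⟨c⟩ := hcov a ha
  have hm : a ∈ (commutator ↥(Subgroup.centralizer ({a} : Set G))).map (Subgroup.subtype _) :=
    ⟨⟨a, Subgroup.mem_centralizer_singleton_iff.2 rfl⟩, c.perf ▸ Subgroup.mem_top _, rfl⟩
  rw [commutator_def, Subgroup.map_commutator] at hm
  exact Subgroup.commutator_mono le_top le_top hm

end M22Prim

end Cfsg.Agent.M22Trans.W
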