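import Cfsg.Agent.Lib.ThreeTranspTwins
import Cfsg.Agent.Cores.Basic
import Cfsg.Agent.SporB.ThreeTransp

/-!
A closed set of pairwise non-commuting 3-transpositions has 3-power size (copy of
`H77FO.exists_ncard_eq_pow`, with light imports).
-/

set_option autoImplicit false
set_option linter.style.haveILetI false

namespace Cfsg.Agent.M22Trans.W

open Cfsg Cfsg.Agent.SporB

variable {G : Type*} [Group G] {D : Set G}

/-- a closed set of pairwise non-commuting members has 3-power size -/
theorem exists_ncard_eq_pow [Finite G] (hD : IsThreeTranspositionSet D) {S : Set G} (hS : S ⊆ D)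
    (hne : S.Nonempty) (hnc : ∀ a ∈ S, ∀ b ∈ S, Commute a b → a = b)
    (hcl : ∀ a ∈ S, ∀ b ∈ S, a * b * a ∈ S) : ∃ n, S.ncard = 3 ^ n := by
  classical
  haveI : Fact (Nat.Prime 3) := ⟨Nat.prime_three⟩
  set K := Subgroup.closure S
  have hstab : ∀ g ∈ K, ∀ s, (s ∈ S ↔ g * s * g⁻¹ ∈ S) := by
    intro g hg
    induction hg using Subgroup.closure_induction with
    | mem a ha =>
      intro s
      rw [tt_inv hD (hS ha)]
      refine ⟨fun hs => hcl a ha s hs, fun hs => ?_⟩
      have := hcl a ha _ hs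
      rwa [show a * (a * s * a) * a = (a * a) * s * (a * a) by simp only [mul_assoc],
        tt_mul_self hD (hS ha), one_mul, mul_one] at this
    | one => simp
    | mul a b _ _ ha hb =>
      intro s
      rw [hb s, ha (b * s * b⁻¹)]
      simp [mul_assoc]
    | inv a _ ha =>
      intro s
      rw [ha (a⁻¹ * s * a⁻¹⁻¹)]
      simp [mul_assoc]
  set E : Set K := K.subtype ⁻¹' S with hE
  have hEG : IsThreeTranspositionGroup E :=
    ⟨ThreeTransp.preimage_set (ThreeTransp.mono hD hS) K.subtype Subtype.val_injective,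
      fun g s hs => (hstab g g.2 s).1 hs, Subgroup.closure_closure_coe_preimage⟩
  have hw : ∀ a ∈ E, ∀ b ∈ E, Commute a b → a = b := fun a ha b hb h =>
    Subtype.ext (hnc _ ha _ hb (h.map K.subtype))
  obtain ⟨d, hd⟩ := hne
  set d' : K := ⟨d, Subgroup.subset_closure hd⟩
  have hd' : d' ∈ E := hd
  letI : MulAction (pCore 3 K) K := MulAction.compHom K
    (((ConjAct.toConjAct : K ≃* ConjAct K).toMonoidHom).comp (pCore 3 K).subtype)
  have hsmul : ∀ (g : pCore 3 K) (s : K), g • s = (g : K) * s * (g : K)⁻¹ := fun g s =>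
    ConjAct.toConjAct_smul (g : K) s
  have horb : MulAction.orbit (pCore 3 K) d' = E := by
    ext s
    constructor
    · rintro ⟨g, rfl⟩
      show g • d' ∈ E
      rw [hsmul]; exact hEG.2.1 _ _ hd'
    · intro hs
      have hW : ThreeTransp.WTwin E d' s := ThreeTransp.wTwin_iff.2 fun y hy =>
        ⟨fun h => absurd (hw d' hd' y hy h.2).symm h.1,
          fun h => absurd (hw s hs y hy h.2).symm h.1⟩
      obtain ⟨g, hg, hgs⟩ := ThreeTransp.wTwin_exists_conj hEG hd' hs hW
      exact ⟨⟨g, hg⟩, (hsmul ⟨g, hg⟩ d').trans hgs.symm⟩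
  obtain ⟨n, hn⟩ := (Cores.pCore_isPGroup (p := 3) (G := K)).card_orbit d'
  refine ⟨n, ?_⟩
  rw [horb] at hn
  have : K.subtype '' E = S := by
    rw [hE, Set.image_preimage_eq_iff]
    intro s hs
    exact ⟨⟨s, Subgroup.subset_closure hs⟩, rfl⟩
  rw [← this, Set.ncard_image_of_injective _ K.subtype_injective, ← Nat.card_coe_set_eq]
  exact hn

end Cfsg.Agent.M22Trans.W
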